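import Mathlib.GroupTheory.Sylow
import Mathlib.RingTheory.RootsOfUnity.PrimitiveRoots
import Mathlib.Algebra.Field.ZMod

/-!
Coprime operator lemmas for a pair of commuting elements of prime order and for semiregular actions.
-/

set_option autoImplicit false

namespace Cfsg.Lib.Solv.TriFree

open Subgroup

variable {K : Type*} [Group K]

/-- `x` and `y` generate an elementary abelian group of order `a ^ 2`. -/
structure Ind (a : ℕ) (x y : K) : Prop where
  ox : orderOf x = a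
  oy : orderOf y = a
  comm : Commute x y
  nmem : y ∉ zpowers x

variable {a : ℕ} {x y : K}

theorem zpowers_eq_of_mem [Finite K] (ha : a.Prime) {u v : K} (hu : orderOf u = a) (hv : v ∈ zpowers u)
    (hv1 : v ≠ 1) : zpowers v = zpowers u := by
  refine eq_of_le_of_card_ge (zpowers_le.2 hv) ?_
  rw [Nat.card_zpowers, Nat.card_zpowers, hu]
  obtain ⟨i, rfl⟩ := mem_zpowers_iff.1 hv
  have hd : orderOf (u ^ i) ∣ a := hu ▸ orderOf_dvd_of_mem_zpowers hv
  exact ((ha.eq_one_or_self_of_dvd _ hd).resolve_left fun h => hv1 (orderOf_eq_one_iff.1 h)).ge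

theorem mem_of_pow_mem [Finite K] {S : Subgroup K} {u : K} {n : ℕ} (hn : n.Coprime (orderOf u))
    (h : u ^ n ∈ S) : u ∈ S := by
  obtain ⟨m, hm⟩ := exists_pow_eq_self_of_coprime hn
  rw [← hm]
  exact pow_mem h m

theorem Ind.closure_pow (h : Ind a x y) {e : K} (he : e ∈ closure ({x, y} : Set K)) : e ^ a = 1 := by
  suffices hh : e ^ a = 1 ∧ Commute e x ∧ Commute e y from hh.1
  induction he using closure_induction with
  | mem z hz =>
    rcases hz with rfl | rfl
    · exact ⟨h.ox ▸ pow_orderOf_eq_one _, Commute.refl _, h.comm⟩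
    · exact ⟨h.oy ▸ pow_orderOf_eq_one _, h.comm.symm, Commute.refl _⟩
  | one => exact ⟨one_pow _, Commute.one_left _, Commute.one_left _⟩
  | mul u v hu hv ihu ihv =>
    have huv : Commute u v := by
      clear ihv
      induction hv using closure_induction with
      | mem z hz =>
        rcases hz with rfl | rfl
        · exact ihu.2.1
        · exact ihu.2.2
      | one => exact Commute.one_right _
      | mul _ _ _ _ a b => exact a.mul_right b
      | inv _ _ a => exact a.inv_right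
    exact ⟨by rw [huv.mul_pow, ihu.1, ihv.1, one_mul], ihu.2.1.mul_left ihv.2.1, ihu.2.2.mul_left ihv.2.2⟩
  | inv u hu ihu => exact ⟨by rw [inv_pow, ihu.1, inv_one], ihu.2.1.inv_left, ihu.2.2.inv_left⟩

theorem Ind.order (ha : a.Prime) (h : Ind a x y) {e : K} (he : e ∈ closure ({x, y} : Set K)) (he1 : e ≠ 1) :
    orderOf e = a :=
  haveI := Fact.mk ha
  orderOf_eq_prime (h.closure_pow he) he1

theorem commute_closure {z : K} (hx : Commute z x) (hy : Commute z y) {e : K}
    (he : e ∈ closure ({x, y} : Set K)) : Commute z e := by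
  induction he using closure_induction with
  | mem w hw =>
    rcases hw with rfl | rfl
    · exact hx
    · exact hy
  | one => exact Commute.one_right _
  | mul _ _ _ _ a b => exact a.mul_right b
  | inv _ _ a => exact a.inv_right

theorem Ind.commute (h : Ind a x y) {e e' : K} (he : e ∈ closure ({x, y} : Set K))
    (he' : e' ∈ closure ({x, y} : Set K)) : Commute e e' :=
  commute_closure (commute_closure (Commute.refl x) h.comm he).symm
    (commute_closure h.comm.symm (Commute.refl y) he).symm he'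

theorem left_mem_closure : x ∈ closure ({x, y} : Set K) := subset_closure (Or.inl rfl)

theorem right_mem_closure : y ∈ closure ({x, y} : Set K) := subset_closure (Or.inr rfl)

theorem Ind.x_ne (ha : a.Prime) (h : Ind a x y) : x ≠ 1 := fun e => ha.one_lt.ne (by rw [← h.ox, e, orderOf_one])

theorem Ind.y_ne (h : Ind a x y) : y ≠ 1 := fun e => h.nmem (e ▸ one_mem _)

theorem Ind.repr [Finite K] (h : Ind a x y) {e : K} (he : e ∈ closure ({x, y} : Set K)) :
    ∃ i j : ℕ, e = x ^ i * y ^ j := by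
  induction he using closure_induction with
  | mem z hz =>
    rcases hz with rfl | rfl
    · exact ⟨1, 0, by simp⟩
    · exact ⟨0, 1, by simp⟩
  | one => exact ⟨0, 0, by simp⟩
  | mul u v _ _ hu hv =>
    obtain ⟨i, j, rfl⟩ := hu
    obtain ⟨k, l, rfl⟩ := hv
    refine ⟨i + k, j + l, ?_⟩
    rw [pow_add, pow_add, mul_assoc, mul_assoc]
    congr 1
    rw [← mul_assoc, ((h.comm.pow_pow k j).symm).eq, mul_assoc]
  | inv u hu ih =>
    obtain ⟨i, j, rfl⟩ := ih
    obtain ⟨i', hi⟩ := (mem_powers_iff_mem_zpowers).2 (inv_mem (npow_mem_zpowers x i))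
    obtain ⟨j', hj⟩ := (mem_powers_iff_mem_zpowers).2 (inv_mem (npow_mem_zpowers y j))
    refine ⟨i', j', ?_⟩
    rw [(h.comm.pow_pow i j).eq, mul_inv_rev, ← hi, ← hj]

/-- Two commuting elements of order `a` normalizing a subgroup of prime order: some nontrivial
product centralizes it. -/
theorem Ind.exists_commute [Finite K] {s : ℕ} (ha : a.Prime) (hs : s.Prime) (h : Ind a x y) {w : K}
    (hw : orderOf w = s) (hx : x * w * x⁻¹ ∈ zpowers w) (hy : y * w * y⁻¹ ∈ zpowers w) :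
    ∃ e ∈ closure ({x, y} : Set K), e ≠ 1 ∧ Commute e w := by
  classical
  haveI := Fact.mk hs
  have key : ∀ {e : K}, e * w * e⁻¹ ∈ zpowers w → ∃ m : ℕ, e * w * e⁻¹ = w ^ m := fun {e} he => by
    obtain ⟨m, hm⟩ := (mem_powers_iff_mem_zpowers).2 he
    exact ⟨m, hm.symm⟩
  obtain ⟨m, hm⟩ := key hx
  obtain ⟨n, hn⟩ := key hy
  have it : ∀ {e : K} {m : ℕ}, e * w * e⁻¹ = w ^ m → ∀ i : ℕ, e ^ i * w * (e ^ i)⁻¹ = w ^ (m ^ i) := by
    intro e m he i
    induction i with
    | zero => simp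
    | succ i ih =>
      calc e ^ (i + 1) * w * (e ^ (i + 1))⁻¹ = e * (e ^ i * w * (e ^ i)⁻¹) * e⁻¹ := by rw [pow_succ']; group
        _ = e * w ^ (m ^ i) * e⁻¹ := by rw [ih]
        _ = w ^ (m ^ (i + 1)) := by rw [← conj_pow, he, ← pow_mul, pow_succ']
  have eqmod : ∀ {i j : ℕ}, (i : ZMod s) = j → w ^ i = w ^ j := fun {i j} hij =>
    pow_eq_pow_iff_modEq.2 (by rw [hw]; exact (ZMod.natCast_eq_natCast_iff _ _ _).1 hij)
  have hm1 : (m : ZMod s) ^ a = 1 := by
    have h1 := it hm a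
    rw [show x ^ a = 1 by rw [← h.ox]; exact pow_orderOf_eq_one x] at h1
    simp only [one_mul, inv_one, mul_one] at h1
    have h2 : m ^ a ≡ 1 [MOD orderOf w] := pow_eq_pow_iff_modEq.1 (by rw [← h1, pow_one])
    rw [hw] at h2
    simpa using (ZMod.natCast_eq_natCast_iff _ _ _).2 h2
  have hn1 : (n : ZMod s) ^ a = 1 := by
    have h1 := it hn a
    rw [show y ^ a = 1 by rw [← h.oy]; exact pow_orderOf_eq_one y] at h1
    simp only [one_mul, inv_one, mul_one] at h1
    have h2 : n ^ a ≡ 1 [MOD orderOf w] := pow_eq_pow_iff_modEq.1 (by rw [← h1, pow_one])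
    rw [hw] at h2
    simpa using (ZMod.natCast_eq_natCast_iff _ _ _).2 h2
  by_cases hmc : (m : ZMod s) = 1
  · refine ⟨x, left_mem_closure, h.x_ne ha, ?_⟩
    have := hm.trans (eqmod (i := m) (j := 1) (by simpa using hmc))
    rw [pow_one] at this
    exact mul_inv_eq_iff_eq_mul.1 this
  · haveI : NeZero a := ⟨ha.ne_zero⟩
    haveI := Fact.mk ha
    have hprim : IsPrimitiveRoot (m : ZMod s) a :=
      IsPrimitiveRoot.iff_orderOf.2 (orderOf_eq_prime hm1 hmc)
    obtain ⟨k, -, hk⟩ := hprim.eq_pow_of_pow_eq_one hn1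
    refine ⟨(x ^ k)⁻¹ * y, mul_mem (inv_mem (pow_mem left_mem_closure k)) right_mem_closure, fun e => h.nmem ?_, ?_⟩
    · rw [← inv_mul_eq_one.1 e]
      exact npow_mem_zpowers x k
    · have h2 : y * w * y⁻¹ = x ^ k * w * (x ^ k)⁻¹ := by
        rw [it hm k, hn]
        exact eqmod (by push_cast; exact hk.symm)
      show _ * _ = _ * _
      calc (x ^ k)⁻¹ * y * w = (x ^ k)⁻¹ * (y * w * y⁻¹) * y := by group
        _ = w * ((x ^ k)⁻¹ * y) := by rw [h2]; group

section Act

variable [Finite K] {V : Type*} [CommGroup V] [Finite V] (φ : K →* MulAut V)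

/-- The fixed points of an element. -/
def fixSub (x : K) : Subgroup V where
  carrier := {v | φ x v = v}
  one_mem' := map_one _
  mul_mem' := fun {u v} hu hv => by
    show φ x (u * v) = u * v
    rw [map_mul, show φ x u = u from hu, show φ x v = v from hv]
  inv_mem' := fun {u} hu => by
    show φ x u⁻¹ = u⁻¹
    rw [map_inv, show φ x u = u from hu]

theorem mem_fixSub {x : K} {v : V} : v ∈ fixSub φ x ↔ φ x v = v := Iff.rfl

theorem apply_apply (x y : K) (v : V) : φ x (φ y v) = φ (x * y) v := by rw [map_mul]; rfl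

theorem fixSub_inv {x z : K} (h : Commute x z) {v : V} (hv : v ∈ fixSub φ z) : φ x v ∈ fixSub φ z := by
  show φ z (φ x v) = φ x v
  rw [apply_apply, ← h.eq, ← apply_apply, (show φ z v = v from hv)]

theorem fix_pow {x : K} {v : V} (h : φ x v = v) (n : ℕ) : φ (x ^ n) v = v := by
  induction n with
  | zero => simp
  | succ n ih => rw [pow_succ, ← apply_apply, h, ih]

theorem fix_zpowers {x e : K} {v : V} (h : φ x v = v) (he : e ∈ zpowers x) : φ e v = v := by
  obtain ⟨n, rfl⟩ := (mem_powers_iff_mem_zpowers).2 he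
  exact fix_pow φ h n

theorem inv_pow_mem {x : K} {U : Subgroup V} (h : ∀ v ∈ U, φ x v ∈ U) (n : ℕ) : ∀ v ∈ U, φ (x ^ n) v ∈ U := by
  induction n with
  | zero => intro v hv; simpa using hv
  | succ n ih => intro v hv; rw [pow_succ, ← apply_apply]; exact ih _ (h v hv)

theorem norm_fixed (c : K) {n : ℕ} (hc : c ^ n = 1) (v : V) :
    φ c (∏ i ∈ Finset.range n, φ (c ^ i) v) = ∏ i ∈ Finset.range n, φ (c ^ i) v := by
  rw [map_prod]
  simp only [apply_apply, ← pow_succ']
  have h2 := (Finset.prod_range_succ' (fun i => φ (c ^ i) v) n).symm.trans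
    (Finset.prod_range_succ (fun i => φ (c ^ i) v) n)
  simp only [hc, pow_zero] at h2
  exact mul_right_cancel h2

/-- An elementary abelian group of order `a ^ 2` is not semiregular on an invariant coprime abelian
subgroup. -/
theorem semi {x y : K} (ha : a.Prime) (h : Ind a x y) (hcop : ¬ a ∣ Nat.card V) (U : Subgroup V)
    (hx : ∀ v ∈ U, φ x v ∈ U) (hy : ∀ v ∈ U, φ y v ∈ U) {v : V} (hv : v ∈ U) (hv1 : v ≠ 1) :
    ∃ e ∈ closure ({x, y} : Set K), e ≠ 1 ∧ ∃ w ∈ U, w ≠ 1 ∧ φ e w = w := by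
  classical
  by_contra hno
  push Not at hno
  have hxa : x ^ a = 1 := h.ox ▸ pow_orderOf_eq_one _
  have hya : y ^ a = 1 := h.oy ▸ pow_orderOf_eq_one _
  have hU : ∀ i j : ℕ, ∀ w ∈ U, φ (x ^ i * y ^ j) w ∈ U := fun i j w hw => by
    rw [← apply_apply]; exact inv_pow_mem φ hx i _ (inv_pow_mem φ hy j w hw)
  have hz : ∀ c ∈ closure ({x, y} : Set K), c ≠ 1 → (∀ i : ℕ, ∀ w ∈ U, φ (c ^ i) w ∈ U) → ∀ w ∈ U,
      ∏ i ∈ Finset.range a, φ (c ^ i) w = 1 := fun c hc hc1 hcU w hw => by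
    by_contra hne
    exact hno c hc hc1 _ (prod_mem fun i _ => hcU i w hw) hne (norm_fixed φ c (h.closure_pow hc) w)
  have hc0 : ∀ j, x * y ^ j ≠ 1 := fun j e => h.nmem (by
    rcases Nat.eq_zero_or_pos (j % a) with h0 | h0
    · exfalso
      rw [← pow_mod_orderOf, h.oy, h0, pow_zero, mul_one] at e
      exact h.x_ne ha e
    · refine mem_of_pow_mem (n := j) ?_ ?_
      · rw [h.oy]; exact ((ha.coprime_iff_not_dvd).2 fun hd => h0.ne' (Nat.mod_eq_zero_of_dvd hd)).symm
      · rw [eq_inv_of_mul_eq_one_right e]; exact inv_mem (mem_zpowers x))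
  have h1 : ∀ j ∈ Finset.range a, ∏ i ∈ Finset.range a, φ ((x * y ^ j) ^ i) v = 1 := fun j _ =>
    hz _ (mul_mem left_mem_closure (pow_mem right_mem_closure j)) (hc0 j)
      (fun i w hw => by rw [(h.comm.pow_right j).mul_pow, ← pow_mul]; exact hU _ _ w hw) v hv
  have hall := Finset.prod_eq_one h1
  rw [Finset.prod_comm, Finset.prod_eq_single 0] at hall
  · simp only [pow_zero, map_one, MulAut.one_apply, Finset.prod_const, Finset.card_range] at hall
    haveI := Fact.mk ha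
    exact hcop (orderOf_eq_prime hall hv1 ▸ orderOf_dvd_natCard v)
  · intro i hi hi0
    have h2 : ∀ j, φ ((x * y ^ j) ^ i) v = φ (x ^ i) (φ ((y ^ i) ^ j) v) := fun j => by
      rw [(h.comm.pow_right j).mul_pow, apply_apply, ← pow_mul, ← pow_mul, mul_comm j]
    simp only [h2]
    rw [← map_prod, hz (y ^ i) (pow_mem right_mem_closure i) ?_ (fun k w hw => by
      rw [← pow_mul]; exact inv_pow_mem φ hy _ w hw) v hv, map_one]
    intro e
    have hd := orderOf_dvd_of_pow_eq_one e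
    rw [h.oy] at hd
    exact hi0 (Nat.eq_zero_of_dvd_of_lt hd (Finset.mem_range.1 hi))
  · simp [ha.pos]

/-- If `y` acts fixed point freely on `S` and `S` does not act trivially on the coprime abelian
invariant subgroup `U`, then `y` fixes a nontrivial point of `U`. -/
theorem frob (S : Subgroup K) {y : K} (hnorm : ∀ s ∈ S, y * s * y⁻¹ ∈ S)
    (hfix : ∀ i : ℕ, 0 < i → i < orderOf y → ∀ s ∈ S, Commute s (y ^ i) → s = 1)
    (hcop : (Nat.card V).Coprime (Nat.card S)) (U : Subgroup V) (hUy : ∀ v ∈ U, φ y v ∈ U)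
    (hUS : ∀ s ∈ S, ∀ v ∈ U, φ s v ∈ U) (hmov : ∃ s ∈ S, ∃ v ∈ U, φ s v ≠ v) :
    ∃ v ∈ U, v ≠ 1 ∧ φ y v = v := by
  classical
  by_contra hno
  push Not at hno
  have _ := Fintype.ofFinite S
  set n := orderOf y with hn
  have hn0 : 0 < n := orderOf_pos y
  obtain ⟨s0, hs0, v, hv, hs0v⟩ := hmov
  have hw : ∀ s : S, ∏ i ∈ Finset.range n, φ ((s : K) * y ^ i * (s : K)⁻¹) v = 1 := by
    intro s
    have e : ∀ i : ℕ, φ ((s : K) * y ^ i * (s : K)⁻¹) v = φ (s : K) (φ (y ^ i) (φ (s : K)⁻¹ v)) := fun i => by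
      rw [apply_apply, apply_apply, mul_assoc]
    simp only [e]
    rw [← map_prod, MulEquiv.map_eq_one_iff]
    by_contra hne
    exact hno _ (prod_mem fun i _ => inv_pow_mem φ hUy i _ (hUS _ (inv_mem s.2) v hv)) hne
      (norm_fixed φ y (pow_orderOf_eq_one y) _)
  have hpow : ∀ i : ℕ, ∀ s ∈ S, y ^ i * s * (y ^ i)⁻¹ ∈ S := by
    intro i
    induction i with
    | zero => intro s hs; simpa using hs
    | succ i ih => intro s hs; simpa [pow_succ', mul_assoc, mul_inv_rev] using hnorm _ (ih s hs)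
  have hfixed : ∀ w : V, φ s0 (∏ t : S, φ (t : K) w) = ∏ t : S, φ (t : K) w := fun w => by
    rw [map_prod]
    refine Fintype.prod_bijective (fun t => (⟨s0, hs0⟩ : S) * t) (Group.mulLeft_bijective _) _ _ fun t => ?_
    rw [apply_apply]
    rfl
  have hi : ∀ i : ℕ, 0 < i → i < n →
      φ s0 (∏ s : S, φ ((s : K) * y ^ i * (s : K)⁻¹) v) = ∏ s : S, φ ((s : K) * y ^ i * (s : K)⁻¹) v := by
    intro i hi0 hin
    let e : S → S := fun s => ⟨(s : K) * (y ^ i * (s : K)⁻¹ * (y ^ i)⁻¹), mul_mem s.2 (hpow i _ (inv_mem s.2))⟩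
    have hinj : Function.Injective e := by
      intro s t hst
      have h1 : (s : K) * (y ^ i * (s : K)⁻¹ * (y ^ i)⁻¹) = (t : K) * (y ^ i * (t : K)⁻¹ * (y ^ i)⁻¹) :=
        congrArg Subtype.val hst
      have h2 : Commute ((t : K)⁻¹ * (s : K)) (y ^ i) := by
        show _ * _ = _ * _
        have h3 := congrArg (fun a => (t : K)⁻¹ * a * (y ^ i) * (s : K)) h1
        simpa [mul_assoc] using h3
      exact Subtype.ext (inv_mul_eq_one.1 (hfix i hi0 hin _ (mul_mem (inv_mem t.2) s.2) h2)).symm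
    have key : ∏ s : S, φ ((s : K) * y ^ i * (s : K)⁻¹) v = ∏ t : S, φ (t : K) (φ (y ^ i) v) := by
      refine Fintype.prod_bijective e (Finite.injective_iff_bijective.1 hinj) _ _ fun s => ?_
      rw [apply_apply]
      congr 2
      show _ = (s : K) * (y ^ i * (s : K)⁻¹ * (y ^ i)⁻¹) * y ^ i
      group
    rw [key]
    exact hfixed _
  have h1 : ∏ i ∈ Finset.range n, ∏ s : S, φ ((s : K) * y ^ i * (s : K)⁻¹) v = 1 := by
    rw [Finset.prod_comm]; exact Finset.prod_eq_one fun s _ => hw s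
  rw [← Finset.mul_prod_erase _ _ (Finset.mem_range.2 hn0)] at h1
  simp only [pow_zero, mul_one, mul_inv_cancel, map_one, MulAut.one_apply, Finset.prod_const,
    Finset.card_univ, ← Nat.card_eq_fintype_card] at h1
  have hmem : v ^ Nat.card S ∈ fixSub φ s0 := by
    rw [eq_inv_of_mul_eq_one_left h1]
    refine inv_mem (prod_mem fun i hi' => ?_)
    obtain ⟨hne, hlt⟩ := Finset.mem_erase.1 hi'
    exact hi i (Nat.pos_of_ne_zero hne) (Finset.mem_range.1 hlt)
  refine hs0v (mem_of_pow_mem (S := fixSub φ s0) ?_ hmem)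
  exact Nat.Coprime.coprime_dvd_right (orderOf_dvd_natCard v) hcop.symm

/-- Prime order version of `frob`. -/
theorem frob' {e : ℕ} (he : e.Prime) (S : Subgroup K) {y : K} (hy : orderOf y = e)
    (hnorm : ∀ s ∈ S, y * s * y⁻¹ ∈ S) (hfix : ∀ s ∈ S, Commute s y → s = 1)
    (hcop : (Nat.card V).Coprime (Nat.card S)) (U : Subgroup V) (hUy : ∀ v ∈ U, φ y v ∈ U)
    (hUS : ∀ s ∈ S, ∀ v ∈ U, φ s v ∈ U) (hmov : ∃ s ∈ S, ∃ v ∈ U, φ s v ≠ v) :
    ∃ v ∈ U, v ≠ 1 ∧ φ y v = v := by
  refine frob φ S hnorm (fun i hi0 hin s hs hc => hfix s hs ?_) hcop U hUy hUS hmov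
  have hco : i.Coprime (orderOf y) := by
    rw [hy]
    exact ((he.coprime_iff_not_dvd).2 fun hd => absurd (Nat.le_of_dvd hi0 hd) (not_le.2 (hy ▸ hin))).symm
  obtain ⟨m, hm⟩ := exists_pow_eq_self_of_coprime hco
  exact hm ▸ hc.pow_right m

/-- An element of prime order moving a normalized subgroup of prime order `w` fixes a point of every
invariant subgroup moved by `w`. -/
theorem frobLine {e s : ℕ} (he : e.Prime) (hs : s.Prime) {y w : K} (hy : orderOf y = e) (hw : orderOf w = s)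
    (hnorm : y * w * y⁻¹ ∈ zpowers w) (hmv : ¬ Commute y w) (hcop : ¬ s ∣ Nat.card V) (U : Subgroup V)
    (hUy : ∀ v ∈ U, φ y v ∈ U) (hUw : ∀ v ∈ U, φ w v ∈ U) {v : V} (hv : v ∈ U) (hwv : φ w v ≠ v) :
    ∃ v ∈ U, v ≠ 1 ∧ φ y v = v := by
  refine frob' φ he (zpowers w) hy ?_ ?_ ?_ U hUy ?_ ⟨w, mem_zpowers w, v, hv, hwv⟩
  · intro t ht
    obtain ⟨k, rfl⟩ := mem_zpowers_iff.1 ht
    rw [← conj_zpow]
    exact zpow_mem hnorm k
  · intro t ht hc
    by_contra ht1
    have hmem : w ∈ zpowers t := (zpowers_eq_of_mem hs hw ht ht1).symm ▸ mem_zpowers w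
    obtain ⟨k, rfl⟩ := mem_zpowers_iff.1 hmem
    exact hmv (hc.symm.zpow_right k)
  · rw [Nat.card_zpowers, hw]; exact ((hs.coprime_iff_not_dvd).2 hcop).symm
  · intro t ht
    obtain ⟨n, rfl⟩ := (mem_powers_iff_mem_zpowers).2 ht
    exact inv_pow_mem φ hUw n

/-- If `g` sends `f` to `f * c` with `c` fixed point free, then `f` fixes a nontrivial point. -/
theorem coset_fixed {c f g : K} (ha : a.Prime) (h : Ind a c f) (hgc : Commute g c) (hgf : g * f * g⁻¹ = f * c)
    (hcop : ¬ a ∣ Nat.card V) (hc : ∀ v, φ c v = v → v = 1) {v : V} (hv1 : v ≠ 1) :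
    ∃ w, w ≠ 1 ∧ φ f w = w := by
  haveI := Fact.mk ha
  haveI : NeZero a := ⟨ha.ne_zero⟩
  obtain ⟨e, he, he1, w, -, hw1, hew⟩ :=
    semi φ ha h hcop ⊤ (fun _ _ => mem_top _) (fun _ _ => mem_top _) (mem_top v) hv1
  obtain ⟨i, j, rfl⟩ := h.repr he
  by_cases hj : (j : ZMod a) = 0
  · exfalso
    have hy0 : f ^ j = 1 := orderOf_dvd_iff_pow_eq_one.1 (by rw [h.oy]; exact (ZMod.natCast_eq_zero_iff _ _).1 hj)
    rw [hy0, mul_one] at hew he1
    have hmem : c ∈ zpowers (c ^ i) := (zpowers_eq_of_mem ha h.ox (npow_mem_zpowers c i) he1).symm ▸ mem_zpowers c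
    exact hw1 (hc w (fix_zpowers φ hew hmem))
  set m : ℕ := ((j : ZMod a)⁻¹).val with hm
  have hfj : f ^ (j * m) = f := by
    conv_rhs => rw [← pow_one f]
    refine pow_eq_pow_iff_modEq.2 ?_
    rw [h.oy, ← ZMod.natCast_eq_natCast_iff]
    push_cast
    rw [hm, ZMod.natCast_zmod_val, mul_inv_cancel₀ hj]
  have hu : φ (c ^ (i * m) * f) w = w := by
    have := fix_pow φ hew m
    rwa [(h.comm.pow_pow i j).mul_pow, ← pow_mul, ← pow_mul, hfj] at this
  have hconj : ∀ n : ℕ, g ^ n * f * (g ^ n)⁻¹ = f * c ^ n := by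
    intro n
    induction n with
    | zero => simp
    | succ n ih =>
      calc g ^ (n + 1) * f * (g ^ (n + 1))⁻¹ = g * (g ^ n * f * (g ^ n)⁻¹) * g⁻¹ := by rw [pow_succ']; group
        _ = (g * f * g⁻¹) * (g * c ^ n * g⁻¹) := by rw [ih]; group
        _ = f * c * c ^ n := by rw [hgf, (hgc.pow_right n).eq, mul_inv_cancel_right]
        _ = f * c ^ (n + 1) := by rw [pow_succ', mul_assoc]
  set n := i * m
  have h1 : c ^ n * f = g ^ n * f * (g ^ n)⁻¹ := by rw [hconj, ((h.comm.pow_left n)).eq]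
  refine ⟨φ (g ^ n)⁻¹ w, by simpa using hw1, ?_⟩
  rw [apply_apply, show f * (g ^ n)⁻¹ = (g ^ n)⁻¹ * (c ^ n * f) by rw [h1]; group, ← apply_apply, hu]

end Act

end Cfsg.Lib.Solv.TriFree
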