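import Cfsg.Agent.Lib.Solv.TriFree.Three

/-!
The remaining case: every elementary abelian normal subgroup is a line.
-/

set_option autoImplicit false

namespace Cfsg.Lib.Solv.TriFree

open Subgroup
open scoped commutatorElement

variable {K : Type*} [Group K] [Finite K] {V : Type*} [CommGroup V] [Finite V]
variable {φ : K →* MulAut V} {σ : Finset ℕ}

omit [Finite V] in
/-- Centralizing all cores forces membership in the Fitting subgroup. -/
theorem mem_fitting_of_cores [Group.IsSolvable K] {x : K}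
    (h : ∀ t : ℕ, t.Prime → ∀ u ∈ Cfsg.pCore t K, Commute x u) : x ∈ Cfsg.fittingSubgroup K := by
  refine Core.centralizer_fitting_le_of_isSolvable (mem_centralizer_iff.2 fun u hu => ?_)
  have hle : Cfsg.fittingSubgroup K ≤ centralizer ({x} : Set K) := by
    rw [Core.fittingSubgroup_eq_iSup_pCore]
    exact iSup_le fun t v hv => mem_centralizer_singleton_iff.2 (h t t.2 v hv).eq.symm
  exact mem_centralizer_singleton_iff.1 (hle hu)

omit [Finite V] in
theorem pCore_eq_bot_of_not_mem (hcard : ∀ t, t.Prime → t ∣ Nat.card K → t ∈ σ) {t : ℕ} (ht : t.Prime)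
    (hts : t ∉ σ) : Cfsg.pCore t K = ⊥ := by
  haveI := Fact.mk ht
  obtain ⟨n, hn⟩ := IsPGroup.iff_card.1 (Core.pCore_isPGroup t K)
  rcases n with _ | n
  · exact Subgroup.card_eq_one.1 (by simpa using hn)
  · exact absurd (hcard t ht ((dvd_pow_self _ (by omega)).trans (hn ▸ Subgroup.card_subgroup_dvd_card _))) hts

/-- All elementary abelian normal subgroups are lines. -/
def Lines (K : Type*) [Group K] : Prop :=
  ∀ (M : Subgroup K), M.Normal → IsMulCommutative M → ∀ a : ℕ, a.Prime → (∀ u ∈ M, u ^ a = 1) →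
    ∀ x ∈ M, ∀ y ∈ M, x ≠ 1 → y ∈ zpowers x

/-- A normal line `z` of order `a` in the situation at hand. -/
structure Line (φ : K →* MulAut V) (σ : Finset ℕ) (a : ℕ) (z : K) : Prop where
  T : Three φ σ
  inj : ∀ x : K, (∀ v, φ x v = v) → x = 1
  lines : Lines K
  mem : a ∈ σ
  oz : orderOf z = a
  normal : (zpowers z).Normal

variable {a : ℕ} {z : K}

theorem Line.conj (L : Line φ σ a z) (g : K) : g * z * g⁻¹ ∈ zpowers z := L.normal.conj_mem z (mem_zpowers z) g

theorem Line.z_ne (L : Line φ σ a z) : z ≠ 1 := ne_one_of_orderOf (L.T.prime a L.mem) L.oz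

theorem Line.fpf (L : Line φ σ a z) {v : V} (hv : φ z v = v) : v = 1 := by
  obtain ⟨b, c, hb, hc, hab, hbc, hac, -⟩ := L.T.others L.mem
  have hap := L.T.prime a L.mem
  obtain ⟨x, y, h⟩ := L.T.rank b hb
  obtain ⟨x', y', h'⟩ := L.T.rank c hc
  obtain ⟨e, he, he1, hez⟩ := h.exists_commute (L.T.prime b hb) hap L.oz (L.conj x) (L.conj y)
  obtain ⟨e', he', he'1, he'z⟩ := h'.exists_commute (L.T.prime c hc) hap L.oz (L.conj x') (L.conj y')
  exact L.T.star a L.mem b hb c hc hab hbc hac z e e' L.oz (h.order (L.T.prime b hb) he he1)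
    (h'.order (L.T.prime c hc) he' he'1) hez.symm he'z.symm v hv

theorem Line.odd (L : Line φ σ a z) : a ≠ 2 := by
  intro h2
  obtain ⟨b, c, hb, hc, hab, hbc, hac, -⟩ := L.T.others L.mem
  have hall : ∀ g : K, Commute z g := fun g => by
    obtain ⟨k, hk⟩ := mem_zpowers_iff.1 (L.conj g)
    have hz2 : z ^ (2 : ℤ) = 1 := by
      have := pow_orderOf_eq_one z
      rw [L.oz, h2] at this
      exact_mod_cast this
    rcases Int.even_or_odd k with ⟨j, hj⟩ | ⟨j, hj⟩
    · exfalso
      rw [hj, ← two_mul, zpow_mul, hz2, one_zpow] at hk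
      exact L.z_ne (by simpa [mul_assoc] using congrArg (fun u => g⁻¹ * u * g) hk.symm)
    · rw [hj, zpow_add, zpow_mul, hz2, one_zpow, one_mul, zpow_one] at hk
      exact (mul_inv_eq_iff_eq_mul.1 hk.symm).symm
  obtain ⟨x, y, hx, hy, hxy⟩ := L.T.pairs b hb c hc hbc
  exact L.T.tri a L.mem b hb c hc hab hbc hac z x y L.oz hx hy (hall x) hxy (hall y)

theorem Line.mem_core (L : Line φ σ a z) : z ∈ Cfsg.pCore a K :=
  haveI := Fact.mk (L.T.prime a L.mem)
  haveI := L.normal
  Core.le_pCore (N := zpowers z) (IsPGroup.of_card (n := 1) (by rw [Nat.card_zpowers, L.oz, pow_one]))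
    (mem_zpowers z)

theorem Line.core_commute (L : Line φ σ a z) {t : K} (ht : t ∈ Cfsg.pCore a K) : Commute t z := by
  haveI := Fact.mk (L.T.prime a L.mem)
  obtain ⟨k, hk⟩ := Core.pCore_isPGroup a K ⟨t, ht⟩
  exact commute_of_normal_line (L.T.prime a L.mem) L.oz ⟨k, congrArg Subtype.val hk⟩ (L.conj t)

/-- Both other primes cannot be entirely represented in the centralizer of the line. -/
theorem Line.not_both (L : Line φ σ a z) {b c : ℕ} (hb : b ∈ σ) (hc : c ∈ σ) (hab : a ≠ b) (hbc : b ≠ c)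
    (hac : a ≠ c) {x y x' y' : K} (h : Ind b x y) (h' : Ind c x' y') (hx : Commute x z) (hy : Commute y z)
    (hx' : Commute x' z) (hy' : Commute y' z) : False := by
  haveI := L.T.sol
  have hbp := L.T.prime b hb
  have hcp := L.T.prime c hc
  set Cz := centralizer ({z} : Set K) with hCz
  have mk : ∀ {u : K}, Commute u z → u ∈ Cz := fun h => mem_centralizer_singleton_iff.2 h.eq
  have hsub : ∀ {d : ℕ} {u w : K} (hh : Ind d u w) (hu : Commute u z) (hw : Commute w z),
      Ind d (⟨u, mk hu⟩ : Cz) ⟨w, mk hw⟩ := fun hh hu hw =>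
    ⟨by rw [Subgroup.orderOf_mk, hh.ox], by rw [Subgroup.orderOf_mk, hh.oy], Subtype.ext hh.comm.eq,
      fun hm => hh.nmem (by
        obtain ⟨k, hk⟩ := mem_zpowers_iff.1 hm
        exact mem_zpowers_iff.2 ⟨k, by simpa using congrArg Subtype.val hk⟩)⟩
  obtain ⟨C, hC⟩ := exists_isPiHall ({b, c} : Set ℕ) Cz
  obtain ⟨a1, b1, h1⟩ := exists_conj_ind inferInstance hC hbp (by simp) (hsub h hx hy)
  obtain ⟨a2, b2, h2⟩ := exists_conj_ind inferInstance hC hcp (by simp) (hsub h' hx' hy')
  have hnt : Nontrivial C := nontrivial_of_ne a1 1 (h1.x_ne hbp)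
  obtain ⟨M, hM⟩ := Core.exists_isMinNormal_univ (G := C)
  obtain ⟨hMc, t, ht, hMt, -⟩ := Core.minimal_solvable_elementary hM inferInstance
  haveI := Fact.mk ht
  haveI := hM.1
  obtain ⟨m, hm, hm1⟩ := M.bot_or_exists_ne_one.resolve_left hM.2.1
  have htbc : t = b ∨ t = c :=
    card_two_primes hC rfl t ht (orderOf_eq_prime (hMt m hm) hm1 ▸ orderOf_dvd_natCard m)
  letI : CommGroup M := { (inferInstance : Group M) with mul_comm := hMc.is_comm.comm }
  suffices hh : ∀ {d : ℕ} {u w : C}, d ∈ σ → d ≠ a → d ≠ t → t ∈ σ → t ≠ a → Ind d u w → False by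
    rcases htbc with rfl | rfl
    · exact hh hc hac.symm hbc.symm hb hab.symm h2
    · exact hh hb hab.symm hbc hc hac.symm h1
  intro d u w hd hda hdt htm hta hh
  obtain ⟨e, he, he1, l, -, hl1, hel⟩ := semi (MulAut.conjNormal (H := M)) (L.T.prime d hd) hh
    (not_dvd_elem ht (L.T.prime d hd) hdt.symm hMt) ⊤ (fun _ _ => mem_top _) (fun _ _ => mem_top _)
    (mem_top (⟨m, hm⟩ : M)) (fun e => hm1 (congrArg Subtype.val e))
  have hc' : Commute e (l : C) :=
    mul_inv_eq_iff_eq_mul.1 (by simpa [MulAut.conjNormal_apply] using congrArg Subtype.val hel)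
  have hlo : orderOf (l : C) = t := orderOf_eq_prime (hMt l l.2) (fun e => hl1 (Subtype.ext e))
  exact L.T.tri a L.mem d hd t htm hda.symm hdt hta.symm z ((e : Cz) : K) (((l : C) : Cz) : K) L.oz
    (by rw [Subgroup.orderOf_coe, Subgroup.orderOf_coe]; exact hh.order (L.T.prime d hd) he he1)
    (by rw [Subgroup.orderOf_coe, Subgroup.orderOf_coe]; exact hlo)
    (mem_centralizer_singleton_iff.1 (e : Cz).2).symm
    (congrArg Subtype.val (congrArg Subtype.val hc'.eq))
    (mem_centralizer_singleton_iff.1 ((l : C) : Cz).2).symm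

omit [Finite V] in
/-- A noncyclic abelian operator group generates by centralizers. -/
theorem le_of_generation {d : ℕ} (hd : d.Prime) {x y : K} (h : Ind d x y) (W : Subgroup K) [W.Normal]
    (hcop : ¬ d ∣ Nat.card W) (X : Subgroup K)
    (hX : ∀ e ∈ closure ({x, y} : Set K), e ≠ 1 → ∀ w ∈ W, Commute w e → w ∈ X) : W ≤ X := by
  set A := closure ({x, y} : Set K) with hA
  haveI : IsMulCommutative A := ⟨⟨fun u v => Subtype.ext (h.commute u.2 v.2).eq⟩⟩
  haveI := Fact.mk hd
  have hnc : ¬ IsCyclic A := by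
    intro hcy
    obtain ⟨c, hc⟩ := hcy.exists_generator
    have hsub : ∀ u ∈ A, u ∈ zpowers (c : K) := fun u hu => by
      obtain ⟨k, hk⟩ := mem_zpowers_iff.1 (hc ⟨u, hu⟩)
      exact mem_zpowers_iff.2 ⟨k, by simpa using congrArg Subtype.val hk⟩
    have hc1 : (c : K) ≠ 1 := fun e => by
      have := hsub x left_mem_closure
      rw [e, zpowers_one_eq_bot, mem_bot] at this
      exact h.x_ne hd this
    apply h.nmem
    rw [zpowers_eq_of_mem hd (h.order hd c.2 hc1) (hsub x left_mem_closure) (h.x_ne hd)]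
    exact hsub y right_mem_closure
  have hle := Coprime.le_iSup_centralizer_of_not_isCyclic (A := A) (G := W) hnc
    (by rw [normalizer_eq_top]; exact le_top) (by
      obtain ⟨k, hk⟩ := IsPGroup.iff_card.1 (show IsPGroup d A from
        fun u => ⟨1, Subtype.ext (by simpa using h.closure_pow u.2)⟩)
      rw [hk]
      exact ((hd.coprime_iff_not_dvd).2 hcop).pow_left k)
  refine hle.trans (iSup_le fun e w hw => ?_)
  obtain ⟨hw1, hw2⟩ := mem_inf.1 hw
  exact hX e e.2.1 e.2.2 w hw1 (mem_centralizer_singleton_iff.1 hw2)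

/-- The core at the prime of a line has a unique subgroup of order `a`. -/
theorem Line.core_omega (L : Line φ σ a z) : ∀ t ∈ Cfsg.pCore a K, t ^ a = 1 → t ∈ zpowers z := by
  have hap := L.T.prime a L.mem
  haveI := Fact.mk hap
  set P := Cfsg.pCore a K with hP
  have hzP : z ∈ P := L.mem_core
  have hzc : ∀ {u : K}, u ∈ P → ∀ {d : K}, d ∈ zpowers z → Commute u d := fun hu d hd => by
    obtain ⟨k, rfl⟩ := mem_zpowers_iff.1 hd
    exact (L.core_commute hu).zpow_right k
  have hconj : ∀ g : K, ∀ d ∈ zpowers z, g * d * g⁻¹ ∈ zpowers z := fun g d hd => L.normal.conj_mem d hd g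
  have hza : ∀ d ∈ zpowers z, d ^ a = 1 := fun d hd =>
    orderOf_dvd_iff_pow_eq_one.1 (L.oz ▸ orderOf_dvd_of_mem_zpowers hd)
  obtain ⟨b, c, hb, hc, hab, hbc, hac, -⟩ := L.T.others L.mem
  -- central elements of order `a` lie in the line
  have hcen : ∀ t ∈ P, t ^ a = 1 → (∀ u ∈ P, Commute t u) → t ∈ zpowers z := by
    intro t ht hta htc
    let Z : Subgroup K :=
      { carrier := {t | t ∈ P ∧ t ^ a = 1 ∧ ∀ u ∈ P, Commute t u}
        one_mem' := ⟨one_mem _, one_pow _, fun u _ => Commute.one_left u⟩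
        mul_mem' := fun {s t} hs ht => ⟨mul_mem hs.1 ht.1, by
          rw [(hs.2.2 t ht.1).mul_pow, hs.2.1, ht.2.1, one_mul], fun u hu => (hs.2.2 u hu).mul_left (ht.2.2 u hu)⟩
        inv_mem' := fun {t} ht => ⟨inv_mem ht.1, by rw [inv_pow, ht.2.1, inv_one],
          fun u hu => (ht.2.2 u hu).inv_left⟩ }
    have hZn : Z.Normal := ⟨fun t ht g => ⟨(inferInstance : P.Normal).conj_mem t ht.1 g, by
      rw [conj_pow, ht.2.1, mul_one, mul_inv_cancel], fun u hu => by
      have h1 := ht.2.2 (g⁻¹ * u * g) (by simpa using (inferInstance : P.Normal).conj_mem u hu g⁻¹)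
      have h2 := congrArg (fun w => g * w * g⁻¹) h1.eq
      show _ * _ = _ * _
      simpa [mul_assoc] using h2⟩⟩
    exact L.lines Z hZn ⟨⟨fun u v => Subtype.ext (u.2.2.2 v v.2.1).eq⟩⟩ a hap (fun u hu => hu.2.1) z
      ⟨hzP, hza z (mem_zpowers z), fun u hu => (L.core_commute hu).symm⟩ t ⟨ht, hta, htc⟩ L.z_ne
  have hchoose : a ∣ a.choose 2 :=
    hap.dvd_choose_self two_ne_zero (lt_of_le_of_ne hap.two_le (Ne.symm L.odd))
  let W : Subgroup K :=
    { carrier := {t | t ∈ P ∧ t ^ a = 1 ∧ ∀ u ∈ P, ⁅t, u⁆ ∈ zpowers z}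
      one_mem' := ⟨one_mem _, one_pow _, fun u _ => by rw [commutatorElement_one_left]; exact one_mem _⟩
      mul_mem' := by
        intro s t hs ht
        refine ⟨mul_mem hs.1 ht.1, ?_, fun u hu => ?_⟩
        · set d := s⁻¹ * t⁻¹ * (s⁻¹)⁻¹ * (t⁻¹)⁻¹ with hd
          have hd1 : ⁅t, s⁆ ∈ zpowers z := ht.2.2 s hs.1
          set d' := (t * s)⁻¹ * ⁅t, s⁆ * (t * s) with hd'
          have hd'm : d' ∈ zpowers z := by
            rw [hd']; simpa using hconj (t * s)⁻¹ _ hd1
          have e : t * s = s * t * d' := by rw [hd', commutatorElement_def]; group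
          rw [PGroup.OddNormalElementary.mul_pow_of_commutator (hzc hs.1 hd'm).symm (hzc ht.1 hd'm).symm e a, hs.2.1, ht.2.1]
          obtain ⟨k, hk⟩ := hchoose
          rw [hk, pow_mul, hza _ hd'm, one_pow, one_mul, one_mul]
        · rw [show ⁅s * t, u⁆ = s * ⁅t, u⁆ * s⁻¹ * ⁅s, u⁆ by simp [commutatorElement_def, mul_assoc]]
          exact mul_mem (hconj s _ (ht.2.2 u hu)) (hs.2.2 u hu)
      inv_mem' := by
        intro t ht
        refine ⟨inv_mem ht.1, by rw [inv_pow, ht.2.1, inv_one], fun u hu => ?_⟩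
        rw [show ⁅t⁻¹, u⁆ = t⁻¹ * ⁅t, u⁆⁻¹ * t⁻¹⁻¹ by simp [commutatorElement_def, mul_assoc]]
        exact hconj t⁻¹ _ (inv_mem (ht.2.2 u hu)) }
  haveI hWn : W.Normal := ⟨fun t ht g => ⟨(inferInstance : P.Normal).conj_mem t ht.1 g, by
    rw [conj_pow, ht.2.1, mul_one, mul_inv_cancel], fun u hu => by
    have h1 := hconj g _ (ht.2.2 (g⁻¹ * u * g) (by simpa using (inferInstance : P.Normal).conj_mem u hu g⁻¹))
    simpa [commutatorElement_def, mul_assoc] using h1⟩⟩
  obtain ⟨v0, hv0⟩ := L.T.ntV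
  -- elements of `W` outside the line have fixed points
  have hfixed : ∀ w ∈ W, w ∉ zpowers z → orderOf w = a ∧ ∃ v, v ≠ 1 ∧ φ w v = v := by
    intro w hw hwz
    have hwo : orderOf w = a := orderOf_eq_prime hw.2.1 fun e => hwz (e ▸ one_mem _)
    refine ⟨hwo, ?_⟩
    obtain ⟨g, hg, hgw⟩ : ∃ g ∈ P, ¬ Commute w g := by
      by_contra h; push Not at h; exact hwz (hcen w hw.1 hw.2.1 h)
    set d := w⁻¹ * (g * w * g⁻¹) with hd
    have hdm : d ∈ zpowers z := by
      have h1 := hconj w⁻¹ _ (inv_mem (hw.2.2 g hg))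
      rw [show d = w⁻¹ * ⁅w, g⁆⁻¹ * w⁻¹⁻¹ by simp [hd, commutatorElement_def, mul_assoc]]
      exact h1
    have hd1 : d ≠ 1 := fun e => hgw (mul_inv_eq_iff_eq_mul.1 (inv_mul_eq_one.1 e).symm).symm
    have hzd := zpowers_eq_of_mem hap L.oz hdm hd1
    have hi : Ind a d w := ⟨orderOf_eq_prime (hza d hdm) hd1, hwo, (hzc hw.1 hdm).symm, by rw [hzd]; exact hwz⟩
    exact coset_fixed φ hap hi (hzc hg hdm) (by rw [hd, mul_inv_cancel_left]) (L.T.cop a L.mem)
      (fun v hv => L.fpf (fix_zpowers φ hv (hzd ▸ mem_zpowers z))) hv0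
  -- operators commuting with such an element commute with the line
  have hcommz : ∀ d ∈ σ, d ≠ a → ∀ e : K, orderOf e = d → ∀ w ∈ W, w ∉ zpowers z → Commute w e → Commute e z := by
    intro d hd hda e he w hw hwz hwe
    by_contra hez
    obtain ⟨hwo, v, hv1, hwv⟩ := hfixed w hw hwz
    obtain ⟨u, hu, hu1, heu⟩ := frobLine φ (L.T.prime d hd) hap he L.oz (L.conj e) hez (L.T.cop a L.mem)
      (fixSub φ w) (fun _ => fixSub_inv φ hwe.symm) (fun _ => fixSub_inv φ (L.core_commute hw.1).symm)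
      (show v ∈ fixSub φ w from hwv) (fun h => hv1 (L.fpf h))
    exact hu1 (L.T.fix a L.mem d hd hda.symm w e hwo he hwe u hu heu)
  -- the line is all of `W`
  have hWz : W ≤ zpowers z := by
    by_contra hWn'
    have hcop : ∀ d ∈ σ, d ≠ a → ¬ d ∣ Nat.card W := fun d hd hda =>
      not_dvd_elem hap (L.T.prime d hd) hda.symm fun u hu => hu.2.1
    have hex : ∀ d ∈ σ, d ≠ a → ∀ {x y : K}, Ind d x y →
        ∃ e ∈ closure ({x, y} : Set K), e ≠ 1 ∧ ∃ w ∈ W, w ∉ zpowers z ∧ Commute w e := by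
      intro d hd hda x y h
      by_contra hno
      push Not at hno
      exact hWn' (le_of_generation (L.T.prime d hd) h W (hcop d hd hda) (zpowers z) fun e he he1 w hw hwe => by
        by_contra hwz
        exact hno e he he1 w hw hwz hwe)
    have moving : ∀ d ∈ σ, d ≠ a → ∀ d' ∈ σ, d' ≠ a → d' ≠ d → ∀ {x y x' y' : K}, Ind d x y → Ind d' x' y' →
        ¬ (Commute x z ∧ Commute y z) → False := by
      intro d hd hda d' hd' hd'a hdd x y x' y' h h' hmv
      have hdp := L.T.prime d hd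
      haveI := L.normal
      obtain ⟨e0, he0, he01, he0z⟩ := h.exists_commute hdp hap L.oz (L.conj x) (L.conj y)
      have hline : ∀ e ∈ closure ({x, y} : Set K), Commute e z → e ∈ zpowers e0 := by
        intro e he hez
        by_contra hn
        have hi : Ind d e0 e := ⟨h.order hdp he0 he01, h.order hdp he (fun e1 => hn (e1 ▸ one_mem _)),
          h.commute he0 he, hn⟩
        have hcard : closure ({x, y} : Set K) ≤ closure ({e0, e} : Set K) := by
          refine (eq_of_le_of_card_ge ((closure_le _).2 ?_) ?_).ge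
          · rintro u (rfl | rfl); exacts [he0, he]
          · have up : ∀ {u w : K}, Ind d u w → Nat.card (closure ({u, w} : Set K)) = d ^ 2 := by
              intro u w hh
              let f : Fin d × Fin d → closure ({u, w} : Set K) := fun p =>
                ⟨u ^ (p.1 : ℕ) * w ^ (p.2 : ℕ), mul_mem (pow_mem left_mem_closure _) (pow_mem right_mem_closure _)⟩
              have hf : Function.Bijective f := by
                refine ⟨?_, ?_⟩
                · rintro ⟨i, j⟩ ⟨i', j'⟩ hp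
                  have hp' : u ^ (i : ℕ) * w ^ (j : ℕ) = u ^ (i' : ℕ) * w ^ (j' : ℕ) := congrArg Subtype.val hp
                  have hj : (j : ℕ) = j' := by
                    by_contra hne
                    apply hh.nmem
                    rcases Nat.lt_or_ge (j : ℕ) j' with hlt | hge
                    · refine mem_of_pow_mem (n := (j' : ℕ) - j) ?_ ?_
                      · rw [hh.oy]
                        exact ((hdp.coprime_iff_not_dvd).2 fun hh' =>
                          absurd (Nat.le_of_dvd (by omega) hh') (by have := j'.2; omega)).symm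
                      · rw [pow_sub _ hlt.le]
                        have e2 : w ^ (j' : ℕ) * (w ^ (j : ℕ))⁻¹ = (u ^ (i' : ℕ))⁻¹ * u ^ (i : ℕ) := by
                          rw [mul_inv_eq_iff_eq_mul, mul_assoc, hp', inv_mul_cancel_left]
                        rw [e2]
                        exact mul_mem (inv_mem (npow_mem_zpowers u _)) (npow_mem_zpowers u _)
                    · refine mem_of_pow_mem (n := (j : ℕ) - j') ?_ ?_
                      · rw [hh.oy]
                        exact ((hdp.coprime_iff_not_dvd).2 fun hh' =>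
                          absurd (Nat.le_of_dvd (by omega) hh') (by have := j.2; omega)).symm
                      · rw [pow_sub _ hge]
                        have e2 : w ^ (j : ℕ) * (w ^ (j' : ℕ))⁻¹ = (u ^ (i : ℕ))⁻¹ * u ^ (i' : ℕ) := by
                          rw [mul_inv_eq_iff_eq_mul, mul_assoc, ← hp', inv_mul_cancel_left]
                        rw [e2]
                        exact mul_mem (inv_mem (npow_mem_zpowers u _)) (npow_mem_zpowers u _)
                  rw [hj] at hp'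
                  have hi := pow_injOn_Iio_orderOf (x := u) (by rw [Set.mem_Iio, hh.ox]; exact i.2)
                    (by rw [Set.mem_Iio, hh.ox]; exact i'.2) (mul_right_cancel hp')
                  exact Prod.ext (Fin.ext hi) (Fin.ext hj)
                · rintro ⟨v, hv⟩
                  obtain ⟨i, j, rfl⟩ := hh.repr hv
                  refine ⟨(⟨i % d, Nat.mod_lt _ hdp.pos⟩, ⟨j % d, Nat.mod_lt _ hdp.pos⟩), Subtype.ext ?_⟩
                  show u ^ (i % d) * w ^ (j % d) = u ^ i * w ^ j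
                  rw [← hh.ox, pow_mod_orderOf, hh.ox, ← hh.oy, pow_mod_orderOf]
              rw [← Nat.card_eq_of_bijective f hf, Nat.card_prod, Nat.card_fin, sq]
            rw [up h, up hi]
        exact hmv ⟨(commute_closure he0z.symm hez.symm (hcard left_mem_closure)).symm,
          (commute_closure he0z.symm hez.symm (hcard right_mem_closure)).symm⟩
      have hW0 : ∀ w ∈ W, Commute w e0 := fun w hw => by
        refine mem_centralizer_singleton_iff.1 (le_of_generation hdp h W (hcop d hd hda)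
          (centralizer ({e0} : Set K)) (fun e he he1 w hw hwe => mem_centralizer_singleton_iff.2 ?_) hw)
        by_cases hwz : w ∈ zpowers z
        · obtain ⟨k, rfl⟩ := mem_zpowers_iff.1 hwz
          exact (he0z.symm.zpow_left k).eq
        · have he' := hline e he (hcommz d hd hda e (h.order hdp he he1) w hw hwz hwe)
          have : e0 ∈ zpowers e := (zpowers_eq_of_mem hdp (h.order hdp he0 he01) he' he1).symm ▸ mem_zpowers e0
          obtain ⟨k, hk⟩ := mem_zpowers_iff.1 this
          exact (hk ▸ hwe.zpow_right k).eq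
      obtain ⟨e', he', he'1, w, hw, hwz, hwe'⟩ := hex d' hd' hd'a h'
      obtain ⟨hwo, v, hv1, hwv⟩ := hfixed w hw hwz
      exact hv1 (L.T.star a L.mem d hd d' hd' hda.symm hdd.symm hd'a.symm w e0 e' hwo (h.order hdp he0 he01)
        (h'.order (L.T.prime d' hd') he' he'1) (hW0 w hw) hwe' v hwv)
    obtain ⟨x, y, h⟩ := L.T.rank b hb
    obtain ⟨x', y', h'⟩ := L.T.rank c hc
    by_cases h1 : Commute x z ∧ Commute y z
    · by_cases h2 : Commute x' z ∧ Commute y' z
      · exact L.not_both hb hc hab hbc hac h h' h1.1 h1.2 h2.1 h2.2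
      · exact moving c hc hac.symm b hb hab.symm hbc h' h h2
    · exact moving b hb hab.symm c hc hac.symm hbc.symm h h' h1
  -- normal elementary abelian subgroups of the core reduce to the line
  intro t ht hta
  by_contra htz
  let zR : P := ⟨z, hzP⟩
  have hzRc : ∀ u : P, Commute u zR := fun u => Subtype.ext (L.core_commute u.2).eq
  obtain ⟨A, ⟨hAn, hAe, hzA⟩, hAmax⟩ := Set.Finite.exists_maximal
    (s := {A : Subgroup P | A.Normal ∧ Cfsg.IsElementaryAbelian a A ∧ zpowers zR ≤ A}) (Set.toFinite _)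
    ⟨zpowers zR, ⟨fun u hu g => by
        obtain ⟨k, rfl⟩ := mem_zpowers_iff.1 hu
        rw [((hzRc g).zpow_right k).eq, mul_inv_cancel_right]
        exact zpow_mem (mem_zpowers zR) k⟩,
      ⟨⟨⟨fun u v => Subtype.ext (by
        obtain ⟨i, hi⟩ := mem_zpowers_iff.1 u.2
        obtain ⟨j, hj⟩ := mem_zpowers_iff.1 v.2
        show (u : P) * v = v * u
        rw [← hi, ← hj]
        exact ((Commute.refl zR).zpow_zpow i j).eq)⟩⟩, fun u hu => by
        obtain ⟨k, rfl⟩ := mem_zpowers_iff.1 hu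
        exact Subtype.ext (by simpa using hza _ (zpow_mem (mem_zpowers z) k))⟩, le_rfl⟩
  haveI := hAn
  by_cases hAz : ∀ u ∈ A, (u : K) ∈ zpowers z
  · apply htz
    have hm := PGroup.OddNormalElementary.mem_of_centralizes L.odd (Core.pCore_isPGroup a K) A hAe
      (fun B hB hBe hAB => le_antisymm (hAmax ⟨hB, hBe, hzA.trans hAB⟩ hAB) hAB)
      (x := ⟨t, ht⟩) (Subtype.ext hta) (mem_centralizer_iff.2 fun u hu => Subtype.ext (hzc ht (hAz u hu)).eq.symm)
    exact hAz _ hm
  · push Not at hAz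
    obtain ⟨u, hu, huz⟩ := hAz
    obtain ⟨B, ⟨hBn, hBA, v, hv, hvz⟩, hBmin⟩ := Set.Finite.exists_minimal
      (s := {B : Subgroup P | B.Normal ∧ B ≤ A ∧ ∃ v ∈ B, (v : K) ∉ zpowers z}) (Set.toFinite _)
      ⟨A, hAn, le_rfl, u, hu, huz⟩
    haveI := hBn
    have hlt : ⁅B, (⊤ : Subgroup P)⁆ < B :=
      PGroup.commutator_lt_of_isPGroup ((Core.pCore_isPGroup a K).to_subgroup B)
        ((Core.pCore_isPGroup a K).to_subgroup ⊤) (by rw [normalizer_eq_top]) fun e => by
          rw [e, mem_bot] at hv; exact hvz (hv ▸ one_mem _)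
    have hsub : ∀ w ∈ ⁅B, (⊤ : Subgroup P)⁆, (w : K) ∈ zpowers z := by
      by_contra hh
      push Not at hh
      exact absurd (hBmin ⟨inferInstance, hlt.le.trans hBA, hh⟩ hlt.le) hlt.not_ge
    exact hvz (hWz ⟨v.2, congrArg Subtype.val (hAe.2 v (hBA hv)), fun w hw => by
      simpa [commutatorElement_def] using hsub _ (commutator_mem_commutator hv (mem_top (⟨w, hw⟩ : P)))⟩)

/-- The core at the prime of a line is cyclic. -/
theorem Line.core_cyclic (L : Line φ σ a z) : ∃ g ∈ Cfsg.pCore a K, ∀ t ∈ Cfsg.pCore a K, t ∈ zpowers g := by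
  haveI := Fact.mk (L.T.prime a L.mem)
  by_cases hc : IsCyclic (⊤ : Subgroup (Cfsg.pCore a K))
  · obtain ⟨g, hg⟩ := hc.exists_generator
    refine ⟨((g : Cfsg.pCore a K) : K), (g : Cfsg.pCore a K).2, fun t ht => ?_⟩
    obtain ⟨k, hk⟩ := mem_zpowers_iff.1 (hg ⟨⟨t, ht⟩, mem_top _⟩)
    exact mem_zpowers_iff.2 ⟨k, by simpa using congrArg Subtype.val (congrArg Subtype.val hk)⟩
  · exfalso
    obtain ⟨E, -, hE, hEc⟩ := PGroup.Noncyclic.exists_elemAb_sq L.odd (Core.pCore_isPGroup a K) ⊤ hc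
    have hle : E.map (Cfsg.pCore a K).subtype ≤ zpowers z := by
      rintro _ ⟨u, hu, rfl⟩
      exact L.core_omega u u.2 (congrArg Subtype.val (hE.2 u hu))
    have := card_le_of_le hle
    rw [Nat.card_zpowers, L.oz, Subgroup.card_subtype, hEc] at this
    exact absurd this (not_le.2 (lt_self_pow₀ (L.T.prime a L.mem).one_lt one_lt_two))

theorem Line.operator_commute (L : Line φ σ a z) {d : ℕ} (hd : d ∈ σ) (hda : d ≠ a) {e : K} (he : orderOf e = d)
    (hez : Commute e z) : ∀ t ∈ Cfsg.pCore a K, Commute e t := by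
  haveI := Fact.mk (L.T.prime a L.mem)
  have hle := PGroup.le_centralizer_of_centralizes_omega L.odd (zpowers e) _ (Core.pCore_isPGroup a K)
    (by rw [normalizer_eq_top]; exact le_top) (by
      obtain ⟨k, hk⟩ := IsPGroup.iff_card.1 (Core.pCore_isPGroup a K)
      rw [Nat.card_zpowers, he, hk]
      exact ((Nat.coprime_primes (L.T.prime d hd) (L.T.prime a L.mem)).2 hda).pow_right k)
    (fun t ht hta g hg => by
      obtain ⟨i, rfl⟩ := mem_zpowers_iff.1 hg
      obtain ⟨j, rfl⟩ := mem_zpowers_iff.1 (L.core_omega t ht hta)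
      exact (hez.zpow_zpow i j).eq)
  exact fun t ht => (mem_centralizer_iff.1 (hle (mem_zpowers e)) t ht).symm

/-- An element of order `a` fixes a line of smaller prime order. -/
theorem commute_of_gt {a b : ℕ} (ha : a.Prime) (hb : b.Prime) (hba : b < a) {w y : K} (hw : orderOf w = b)
    (hy : orderOf y = a) (hn : y * w * y⁻¹ ∈ zpowers w) : Commute y w := by
  haveI := Fact.mk hb
  haveI := Fact.mk ha
  obtain ⟨m, hm⟩ := (mem_powers_iff_mem_zpowers).2 hn
  have it : ∀ i : ℕ, y ^ i * w * (y ^ i)⁻¹ = w ^ (m ^ i) := by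
    intro i
    induction i with
    | zero => simp
    | succ i ih =>
      calc y ^ (i + 1) * w * (y ^ (i + 1))⁻¹ = y * (y ^ i * w * (y ^ i)⁻¹) * y⁻¹ := by rw [pow_succ']; group
        _ = y * w ^ (m ^ i) * y⁻¹ := by rw [ih]
        _ = w ^ (m ^ (i + 1)) := by rw [← conj_pow, ← hm, ← pow_mul, pow_succ']
  have h1 := it a
  rw [show y ^ a = 1 by rw [← hy]; exact pow_orderOf_eq_one y] at h1
  simp only [one_mul, inv_one, mul_one] at h1
  have h2 : m ^ a ≡ 1 [MOD orderOf w] := pow_eq_pow_iff_modEq.1 (by rw [← h1, pow_one])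
  rw [hw, ← ZMod.natCast_eq_natCast_iff] at h2
  push_cast at h2
  have hm0 : (m : ZMod b) ≠ 0 := fun h => by
    rw [h, zero_pow ha.ne_zero] at h2; exact zero_ne_one h2
  have h3 : orderOf (m : ZMod b) = 1 := by
    refine Nat.eq_one_of_dvd_coprimes ?_ (orderOf_dvd_of_pow_eq_one h2)
      (orderOf_dvd_of_pow_eq_one (ZMod.pow_card_sub_one_eq_one hm0))
    exact (ha.coprime_iff_not_dvd).2 fun h => absurd (Nat.le_of_dvd (by have := hb.two_le; omega) h) (by omega)
  have h4 : w ^ m = w ^ 1 :=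
    pow_eq_pow_iff_modEq.2 (by rw [hw, ← ZMod.natCast_eq_natCast_iff, orderOf_eq_one_iff.1 h3, Nat.cast_one])
  rw [pow_one] at h4
  exact mul_inv_eq_iff_eq_mul.1 (hm.symm.trans h4)

/-- Two lines, the second of smaller order. -/
theorem two_lines {b : ℕ} {w : K} (L : Line φ σ a z) (L' : Line φ σ b w) (hba : b < a)
    (hrest : ∀ t : ℕ, t.Prime → t ≠ a → t ≠ b → Cfsg.pCore t K = ⊥) : False := by
  haveI := L.T.sol
  have hap := L.T.prime a L.mem
  have hbp := L.T.prime b L'.mem
  haveI := Fact.mk hap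
  haveI := Fact.mk hbp
  obtain ⟨ga, hga, hgenA⟩ := L.core_cyclic
  obtain ⟨gb, hgb, hgenB⟩ := L'.core_cyclic
  obtain ⟨x, y, h⟩ := L.T.rank a L.mem
  set A := Cfsg.pCore a K with hA
  set B := Cfsg.pCore b K with hB
  have hfit : Cfsg.fittingSubgroup K ≤ A ⊔ B := by
    rw [Core.fittingSubgroup_eq_iSup_pCore]
    refine iSup_le fun t => ?_
    by_cases h1 : (t : ℕ) = a
    · rw [h1]; exact le_sup_left
    by_cases h2 : (t : ℕ) = b
    · rw [h2]; exact le_sup_right
    rw [hrest t t.2 h1 h2]; exact bot_le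
  have hAB : ∀ u ∈ A, ∀ v ∈ B, Commute u v := fun u hu v hv => by
    refine commute_of_normal_of_disjoint _ _ inferInstance inferInstance ?_ u v hu hv
    obtain ⟨i, hi⟩ := IsPGroup.iff_card.1 (Core.pCore_isPGroup a K)
    obtain ⟨j, hj⟩ := IsPGroup.iff_card.1 (Core.pCore_isPGroup b K)
    exact Coprime.disjoint_of_coprime_card (by
      rw [hi, hj]; exact (((Nat.coprime_primes hap hbp).2 (ne_of_gt hba)).pow_left i).pow_right j)
  have key : ∀ e : K, orderOf e = a → e ∈ zpowers z := by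
    intro e he
    have hew := commute_of_gt hap hbp hba L'.oz he (L'.conj e)
    have heB := L'.operator_commute L.mem (ne_of_gt hba) he hew
    set U := zpowers e ⊔ A with hU
    have hUp : IsPGroup a U := (IsPGroup.of_card (n := 1) (by rw [Nat.card_zpowers, he, pow_one]) :
      IsPGroup a (zpowers e)).to_sup_of_normal_right (Core.pCore_isPGroup a K)
    have hUB : ∀ u ∈ U, ∀ v ∈ B, Commute u v := fun u hu v hv => by
      have hle : U ≤ centralizer ({v} : Set K) := sup_le
        (zpowers_le.2 (mem_centralizer_singleton_iff.2 (heB v hv).eq))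
        (fun r hr => mem_centralizer_singleton_iff.2 (hAB r hr v hv).eq)
      exact mem_centralizer_singleton_iff.1 (hle hu)
    have hcomm : ∀ k : K, ⁅k, e⁆ ∈ A ⊔ B := by
      intro k
      refine hfit (mem_fitting_of_cores fun t htp u hu => ?_)
      have aux : ∀ (g : K) (P : Subgroup K), P.Normal → g ∈ P → (∀ u ∈ P, u ∈ zpowers g) →
          ∀ u ∈ P, Commute ⁅k, e⁆ u := by
        intro g P hPn hg hgen u hu
        obtain ⟨i, hi⟩ := mem_zpowers_iff.1 (hgen _ (hPn.conj_mem g hg k⁻¹))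
        obtain ⟨j, hj⟩ := mem_zpowers_iff.1 (hgen _ (hPn.conj_mem g hg e⁻¹))
        have h1 : Commute ⁅k, e⁆ g := by
          have e1 : k⁻¹ * e⁻¹ * g * (k⁻¹ * e⁻¹)⁻¹ = e⁻¹ * k⁻¹ * g * (e⁻¹ * k⁻¹)⁻¹ := by
            calc k⁻¹ * e⁻¹ * g * (k⁻¹ * e⁻¹)⁻¹ = k⁻¹ * (e⁻¹ * g * e⁻¹⁻¹) * k⁻¹⁻¹ := by group
              _ = g ^ (i * j) := by rw [← hj, ← conj_zpow, ← hi, ← zpow_mul]
              _ = e⁻¹ * (k⁻¹ * g * k⁻¹⁻¹) * e⁻¹⁻¹ := by rw [mul_comm i j, zpow_mul, hj, conj_zpow, hi]
              _ = _ := by group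
          show _ * _ = _ * _
          calc ⁅k, e⁆ * g = k * e * (k⁻¹ * e⁻¹ * g * (k⁻¹ * e⁻¹)⁻¹) * (k⁻¹ * e⁻¹) := by
                rw [commutatorElement_def]; group
            _ = g * ⁅k, e⁆ := by rw [e1, commutatorElement_def]; group
        obtain ⟨n, rfl⟩ := mem_zpowers_iff.1 (hgen u hu)
        exact h1.zpow_right n
      by_cases h1 : t = a
      · subst h1; exact aux ga _ inferInstance hga hgenA u hu
      by_cases h2 : t = b
      · subst h2; exact aux gb _ inferInstance hgb hgenB u hu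
      rw [hrest t htp h1 h2, mem_bot] at hu
      exact hu ▸ Commute.one_right _
    have hconjU : ∀ k : K, k * e * k⁻¹ ∈ U := by
      intro k
      have hm : ⁅k, e⁆ ∈ ((A ⊔ B : Subgroup K) : Set K) := hcomm k
      rw [Subgroup.mul_normal A B, Set.mem_mul] at hm
      obtain ⟨u, hu, v, hv, huv⟩ := hm
      have hue : u * e ∈ U := mul_mem (mem_sup_right hu) (mem_sup_left (mem_zpowers e))
      have e1 : k * e * k⁻¹ = u * e * v := by
        calc k * e * k⁻¹ = ⁅k, e⁆ * e := by rw [commutatorElement_def]; group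
          _ = u * (v * e) := by rw [← huv, mul_assoc]
          _ = u * e * v := by rw [← (heB v hv).eq, mul_assoc]
      have hp : (u * e * v) ^ a = 1 := by
        rw [← e1, conj_pow, ← he, pow_orderOf_eq_one, mul_one, mul_inv_cancel]
      rw [(hUB _ hue v hv).mul_pow] at hp
      have hva : v ^ a ∈ U := by rw [eq_inv_of_mul_eq_one_right hp]; exact inv_mem (pow_mem hue a)
      have hv1 : v = 1 := by
        obtain ⟨i, hi⟩ := IsPGroup.iff_orderOf.1 hUp ⟨_, hva⟩
        obtain ⟨j, hj⟩ := IsPGroup.iff_orderOf.1 (Core.pCore_isPGroup b K) ⟨v, hv⟩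
        rw [Subgroup.orderOf_mk] at hi hj
        have hco : a.Coprime (orderOf v) := by rw [hj]; exact ((Nat.coprime_primes hap hbp).2 (ne_of_gt hba)).pow_right j
        rw [orderOf_pow' v hap.ne_zero, Nat.coprime_iff_gcd_eq_one.1 hco.symm, Nat.div_one, hj] at hi
        refine orderOf_eq_one_iff.1 (Nat.eq_one_of_dvd_coprimes
          ((((Nat.coprime_primes hap hbp).2 (ne_of_gt hba)).pow_left i).pow_right j) ?_ ?_) <;> rw [hj]
        exact dvd_of_eq hi
      rw [e1, hv1, mul_one]
      exact hue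
    haveI : U.Normal := ⟨fun u hu k => by
      have hle : U ≤ U.comap (MulAut.conj k).toMonoidHom :=
        sup_le (zpowers_le.2 (hconjU k)) fun r hr => mem_sup_right ((inferInstance : A.Normal).conj_mem r hr k)
      exact hle hu⟩
    exact L.core_omega e (Core.le_pCore (N := U) hUp (mem_sup_left (mem_zpowers e))) (he ▸ pow_orderOf_eq_one e)
  have hy := key y h.oy
  rw [← zpowers_eq_of_mem hap L.oz (key x h.ox) (h.x_ne hap)] at hy
  exact h.nmem hy

theorem exists_line (T : Three φ σ) (hinj : ∀ x : K, (∀ v, φ x v = v) → x = 1) (hl : Lines K) {N : Subgroup K}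
    (hN : N.Normal) (hne : N ≠ ⊥) : ∃ a z, Line φ σ a z ∧ z ∈ N := by
  haveI := T.sol
  obtain ⟨M, hM, hMN⟩ := Core.exists_isMinNormal hN hne
  obtain ⟨hMc, t, ht, hMt, -⟩ := Core.minimal_solvable_elementary hM inferInstance
  haveI := Fact.mk ht
  obtain ⟨z, hz, hz1⟩ := M.bot_or_exists_ne_one.resolve_left hM.2.1
  have hzo := orderOf_eq_prime (hMt z hz) hz1
  refine ⟨t, z, ⟨T, hinj, hl, T.hcard t ht (hzo ▸ orderOf_dvd_natCard z), hzo, ?_⟩, hMN hz⟩
  have e : zpowers z = M := le_antisymm (zpowers_le.2 hz) fun y hy => hl M hM.1 hMc t ht hMt z hz y hy hz1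
  rw [e]
  exact hM.1

theorem Three.lines_case (T : Three φ σ) (hinj : ∀ x : K, (∀ v, φ x v = v) → x = 1) (hl : Lines K) : False := by
  haveI := T.sol
  obtain ⟨a0, b0, hb0, -⟩ : ∃ a b : ℕ, a ∈ σ ∧ True := by
    obtain ⟨a, ha⟩ := Finset.card_pos.1 (by rw [T.card3]; norm_num : 0 < σ.card)
    exact ⟨a, 0, ha, trivial⟩
  obtain ⟨x0, y0, h0⟩ := T.rank a0 hb0
  haveI : Nontrivial K := nontrivial_of_ne x0 1 (h0.x_ne (T.prime a0 hb0))
  obtain ⟨a, z, L, -⟩ := exists_line T hinj hl (N := ⊤) inferInstance top_ne_bot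
  obtain ⟨b, c, hb, hc, hab, hbc, hac, hbc'⟩ := T.others L.mem
  have hap := T.prime a L.mem
  haveI := Fact.mk hap
  -- a second line
  have second : ∀ d ∈ σ, Cfsg.pCore d K ≠ ⊥ → ∃ w, Line φ σ d w := by
    intro d hd hne
    haveI := Fact.mk (T.prime d hd)
    obtain ⟨d', w, L', hw⟩ := exists_line T hinj hl (N := Cfsg.pCore d K) inferInstance hne
    obtain ⟨k, hk⟩ := IsPGroup.iff_orderOf.1 (Core.pCore_isPGroup d K) ⟨w, hw⟩
    rw [Subgroup.orderOf_mk, L'.oz] at hk
    have hdd : d' = d := (Nat.prime_dvd_prime_iff_eq (T.prime d' L'.mem) (T.prime d hd)).1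
      ((T.prime d' L'.mem).dvd_of_dvd_pow (dvd_of_eq hk))
    exact ⟨w, hdd ▸ L'⟩
  have hother : ∀ t, t.Prime → t ≠ a → t ≠ b → t ≠ c → Cfsg.pCore t K = ⊥ := fun t ht h1 h2 h3 =>
    pCore_eq_bot_of_not_mem T.hcard ht fun hm => (hbc' t hm h1).elim h2 h3
  by_cases hbb : Cfsg.pCore b K = ⊥
  · by_cases hcc : Cfsg.pCore c K = ⊥
    · obtain ⟨x, y, h⟩ := T.rank b hb
      have hbp := T.prime b hb
      obtain ⟨e, he, he1, hez⟩ := h.exists_commute hbp hap L.oz (L.conj x) (L.conj y)
      have heo := h.order hbp he he1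
      have hF := mem_fitting_of_cores (x := e) fun t ht u hu => by
        by_cases h1 : t = a
        · subst h1; exact L.operator_commute hb hab.symm heo hez u hu
        have : Cfsg.pCore t K = ⊥ := by
          by_cases h2 : t = b
          · exact h2 ▸ hbb
          by_cases h3 : t = c
          · exact h3 ▸ hcc
          exact hother t ht h1 h2 h3
        rw [this, mem_bot] at hu
        exact hu ▸ Commute.one_right e
      have hle : Cfsg.fittingSubgroup K ≤ Cfsg.pCore a K := by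
        rw [Core.fittingSubgroup_eq_iSup_pCore]
        refine iSup_le fun t => ?_
        by_cases h1 : (t : ℕ) = a
        · rw [h1]
        by_cases h2 : (t : ℕ) = b
        · rw [h2, hbb]; exact bot_le
        by_cases h3 : (t : ℕ) = c
        · rw [h3, hcc]; exact bot_le
        rw [hother t t.2 h1 h2 h3]; exact bot_le
      obtain ⟨k, hk⟩ := IsPGroup.iff_orderOf.1 (Core.pCore_isPGroup a K) ⟨e, hle hF⟩
      rw [Subgroup.orderOf_mk, heo] at hk
      exact hab ((Nat.prime_dvd_prime_iff_eq hbp hap).1 (hbp.dvd_of_dvd_pow (dvd_of_eq hk))).symm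
    · obtain ⟨w, L'⟩ := second c hc hcc
      have hrest : ∀ t : ℕ, t.Prime → t ≠ a → t ≠ c → Cfsg.pCore t K = ⊥ := fun t ht h1 h3 => by
        by_cases h2 : t = b
        · exact h2 ▸ hbb
        exact hother t ht h1 h2 h3
      rcases Nat.lt_or_gt_of_ne hac with hlt | hgt
      · exact two_lines L' L hlt fun t ht h1 h2 => hrest t ht h2 h1
      · exact two_lines L L' hgt hrest
  · obtain ⟨w, L'⟩ := second b hb hbb
    by_cases hcc : Cfsg.pCore c K = ⊥
    · have hrest : ∀ t : ℕ, t.Prime → t ≠ a → t ≠ b → Cfsg.pCore t K = ⊥ := fun t ht h1 h2 => by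
        by_cases h3 : t = c
        · exact h3 ▸ hcc
        exact hother t ht h1 h2 h3
      rcases Nat.lt_or_gt_of_ne hab with hlt | hgt
      · exact two_lines L' L hlt fun t ht h1 h2 => hrest t ht h2 h1
      · exact two_lines L L' hgt hrest
    · obtain ⟨u, L''⟩ := second c hc hcc
      have comm : ∀ {d d' : ℕ} {v v' : K}, Line φ σ d v → Line φ σ d' v' → d ≠ d' → Commute v v' := by
        intro d d' v v' M M' hdd
        exact commute_of_normal_of_disjoint _ _ M.normal M'.normal (Coprime.disjoint_of_coprime_card (by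
          rw [Nat.card_zpowers, Nat.card_zpowers, M.oz, M'.oz]
          exact (Nat.coprime_primes (T.prime d M.mem) (T.prime d' M'.mem)).2 hdd)) v v' (mem_zpowers v) (mem_zpowers v')
      exact T.tri a L.mem b hb c hc hab hbc hac z w u L.oz L'.oz L''.oz (comm L L' hab) (comm L' L'' hbc)
        (comm L L'' hac)

/-- **Three primes on a coprime module cannot be pairwise joined without a triple.** -/
theorem Three.false (T : Three φ σ) : False := by
  haveI := T.sol
  by_cases hinj : ∀ x : K, (∀ v, φ x v = v) → x = 1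
  · by_cases hl : Lines K
    · exact T.lines_case hinj hl
    · unfold Lines at hl
      push Not at hl
      obtain ⟨M, hMn, hMc, a, ha, hMa, x, hx, y, hy, hx1, hyx⟩ := hl
      haveI := Fact.mk ha
      have hxo := orderOf_eq_prime (hMa x hx) hx1
      exact T.plane_case hinj (T.hcard a ha (hxo ▸ orderOf_dvd_natCard x)) M hMc hMa
        ⟨hxo, orderOf_eq_prime (hMa y hy) (fun e => hyx (e ▸ one_mem _)),
          congrArg Subtype.val (hMc.is_comm.comm (⟨x, hx⟩ : M) ⟨y, hy⟩), hyx⟩ hx hy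
  · push Not at hinj
    obtain ⟨x, hx, hx1⟩ := hinj
    obtain ⟨M, hM, hMk⟩ := Core.exists_isMinNormal (N := φ.ker) inferInstance fun e =>
      hx1 (mem_bot.1 (e ▸ (MonoidHom.mem_ker.2 (MulEquiv.ext hx) : x ∈ φ.ker)))
    obtain ⟨hMc, a, ha, hMa, -⟩ := Core.minimal_solvable_elementary hM inferInstance
    haveI := Fact.mk ha
    haveI := hM.1
    obtain ⟨m, hm, hm1⟩ := M.bot_or_exists_ne_one.resolve_left hM.2.1
    exact T.kernel_case (T.hcard a ha (orderOf_eq_prime (hMa m hm) hm1 ▸ orderOf_dvd_natCard m)) M hMc hMa hM.2.1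
      fun u hu v => by rw [MonoidHom.mem_ker.1 (hMk hu)]; rfl

end Cfsg.Lib.Solv.TriFree
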