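import Cfsg.Agent.Lib.Solv.TriFree.TwoMod
import Cfsg.Agent.Lib.Coprime.Generation

/-!
A solvable group with two primes on a faithful module `V` and a second module `W`, such that in each
commuting pair one member is trivial on `W` and then semiregular on `V`.
-/

set_option autoImplicit false

namespace Cfsg.Lib.Solv.TriFree

open Subgroup
open scoped commutatorElement

variable {H : Type*} [Group H] [Finite H] {V W : Type*} [CommGroup V] [Finite V] [CommGroup W] [Finite W]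
variable (φ : H →* MulAut V) (ψ : H →* MulAut W)

/-- The hypotheses. -/
structure One (q s : ℕ) : Prop where
  hq : q.Prime
  hs : s.Prime
  hne : q ≠ s
  sol : Group.IsSolvable H
  hcard : ∀ t, t.Prime → t ∣ Nat.card H → t = q ∨ t = s
  qV : ¬ q ∣ Nat.card V
  sV : ¬ s ∣ Nat.card V
  qW : ¬ q ∣ Nat.card W
  sW : ¬ s ∣ Nat.card W
  ntV : ∃ v : V, v ≠ 1
  ntW : ∃ w : W, w ≠ 1
  inj : ∀ x : H, (∀ v, φ x v = v) → x = 1
  semiV : ∀ x : H, (orderOf x = q ∨ orderOf x = s) → ψ x = 1 → ∀ v, φ x v = v → v = 1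
  one : ∀ f l : H, orderOf f = q → orderOf l = s → Commute f l → ψ f = 1 ∨ ψ l = 1
  pairW : ∀ f l : H, orderOf f = q → orderOf l = s → Commute f l → ∀ v, ψ f v = v → ψ l v = v → v = 1
  ex : ∃ f l : H, orderOf f = q ∧ orderOf l = s ∧ Commute f l
  eq : ∃ x y : H, Ind q x y
  es : ∃ x y : H, Ind s x y

variable {φ ψ} {q s : ℕ}

theorem One.symm (T : One φ ψ q s) : One φ ψ s q :=
  ⟨T.hs, T.hq, T.hne.symm, T.sol, fun t ht hd => (T.hcard t ht hd).symm, T.sV, T.qV, T.sW, T.qW, T.ntV, T.ntW,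
    T.inj, fun x hx => T.semiV x hx.symm, fun f l hf hl hc => (T.one l f hl hf hc.symm).symm,
    fun f l hf hl hc v h1 h2 => T.pairW l f hl hf hc.symm v h2 h1,
    (by obtain ⟨f, l, hf, hl, hc⟩ := T.ex; exact ⟨l, f, hl, hf, hc.symm⟩), T.es, T.eq⟩

theorem ne_one_of_orderOf {K : Type*} [Group K] {x : K} {a : ℕ} (ha : a.Prime) (hx : orderOf x = a) : x ≠ 1 :=
  fun e => ha.one_lt.ne (by rw [← hx, e, orderOf_one])

theorem One.ker_ind (T : One φ ψ q s) {x y : H} (h : Ind q x y) (hx : ψ x = 1) (hy : ψ y = 1) : False := by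
  obtain ⟨v0, hv0⟩ := T.ntV
  obtain ⟨e, he, he1, v, -, hv1, hev⟩ :=
    semi φ T.hq h T.qV ⊤ (fun _ _ => mem_top _) (fun _ _ => mem_top _) (mem_top v0) hv0
  have hk : e ∈ ψ.ker := (closure_le ψ.ker).2 (by rintro z (rfl | rfl); exacts [hx, hy]) he
  exact hv1 (T.semiV e (Or.inl (h.order T.hq he he1)) hk v hev)

/-- A minimal normal subgroup inside the kernel on `W` is a line. -/
theorem One.ker_line (T : One φ ψ q s) {f : H} (hf : orderOf f = q) (hfk : ψ f = 1) :
    ∃ t z, (t = q ∨ t = s) ∧ orderOf z = t ∧ (zpowers z).Normal ∧ ψ z = 1 := by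
  haveI := T.sol
  obtain ⟨L, hL, hLk⟩ := Core.exists_isMinNormal (N := ψ.ker) inferInstance fun e =>
    ne_one_of_orderOf T.hq hf (mem_bot.1 (e ▸ (show f ∈ ψ.ker from hfk)))
  obtain ⟨hLc, t, ht, hLt, hLp⟩ := Core.minimal_solvable_elementary hL inferInstance
  haveI := Fact.mk ht
  obtain ⟨z, hz, hz1⟩ := L.bot_or_exists_ne_one.resolve_left hL.2.1
  have hzo := orderOf_eq_prime (hLt z hz) hz1
  have htqs : t = q ∨ t = s := T.hcard t ht (hzo ▸ orderOf_dvd_natCard z)
  refine ⟨t, z, htqs, hzo, ?_, hLk hz⟩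
  have hsub : ∀ y ∈ L, y ∈ zpowers z := by
    intro y hy
    by_contra hyn
    have h : Ind t z y := ⟨hzo, orderOf_eq_prime (hLt y hy) (fun e => hyn (e ▸ one_mem _)),
      congrArg Subtype.val (hLc.is_comm.comm (⟨z, hz⟩ : L) ⟨y, hy⟩), hyn⟩
    rcases htqs with rfl | rfl
    · exact T.ker_ind h (hLk hz) (hLk hy)
    · exact T.symm.ker_ind h (hLk hz) (hLk hy)
  have e : zpowers z = L := le_antisymm (zpowers_le.2 hz) hsub
  rw [e]
  exact hL.1

theorem One.move_line (T : One φ ψ q s) {z w : H} (hz : orderOf z = q) (hzn : (zpowers z).Normal) (hzk : ψ z = 1)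
    (hw : orderOf w = s) (hwk : ψ w = 1) : False := by
  obtain ⟨w0, hw0⟩ := T.ntW
  by_cases hc : Commute w z
  · exact hw0 (T.pairW z w hz hw hc.symm w0 (by rw [hzk]; rfl) (by rw [hwk]; rfl))
  obtain ⟨v, hv⟩ : ∃ v, φ z v ≠ v := by
    by_contra hh
    push Not at hh
    exact ne_one_of_orderOf T.hq hz (T.inj z hh)
  obtain ⟨u, -, hu1, hwu⟩ := frobLine φ T.hs T.hq hw hz (hzn.conj_mem z (mem_zpowers z) w) hc T.qV ⊤
    (fun _ _ => mem_top _) (fun _ _ => mem_top _) (mem_top v) hv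
  exact hu1 (T.semiV w (Or.inr hw) hwk u hwu)

theorem One.no_both (T : One φ ψ q s) {f w : H} (hf : orderOf f = q) (hfk : ψ f = 1) (hw : orderOf w = s)
    (hwk : ψ w = 1) : False := by
  obtain ⟨t, z, ht, hzo, hzn, hzk⟩ := T.ker_line hf hfk
  rcases ht with rfl | rfl
  · exact T.move_line hzo hzn hzk hw hwk
  · exact T.symm.move_line hzo hzn hzk hf hfk

theorem One.false_aux (T : One φ ψ q s) {f : H} (hf : orderOf f = q) (hfk : ψ f = 1) : False := by
  haveI := T.sol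
  haveI := Fact.mk T.hs
  haveI := Fact.mk T.hq
  obtain ⟨t, z, ht, hzo, hzn, hzk⟩ := T.ker_line hf hfk
  rcases ht with rfl | rfl
  swap
  · exact T.no_both hf hfk hzo hzk
  haveI := hzn
  have hnc : ∀ g : H, g * z * g⁻¹ ∈ zpowers z := fun g => hzn.conj_mem z (mem_zpowers z) g
  have hqz : ∀ g : H, (∃ k : ℕ, g ^ t ^ k = 1) → Commute g z := fun g hg =>
    commute_of_normal_line T.hq hzo hg (hnc g)
  have hqq : ∀ g : H, orderOf g = t → Commute g z := fun g hg =>
    hqz g ⟨1, by rw [pow_one, ← hg, pow_orderOf_eq_one]⟩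
  -- only the line is trivial on `W` or paired
  have hpair : ∀ e l : H, orderOf e = t → orderOf l = s → Commute e l → e ∈ zpowers z := by
    intro e l he hl hc
    rcases T.one e l he hl hc with h | h
    · by_contra hn
      exact T.ker_ind ⟨hzo, he, (hqq e he).symm, hn⟩ hzk h
    · exact (T.no_both hf hfk hl h).elim
  obtain ⟨w0, hw0⟩ := T.ntW
  have hline : ∀ a b : H, orderOf a = s → orderOf b = s → Commute a z → Commute b z → Commute a b → b ∈ zpowers a := by
    intro a b ha hb haz hbz hab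
    by_contra hn
    have h : Ind s a b := ⟨ha, hb, hab, hn⟩
    obtain ⟨e, he, he1, v, -, hv1, hev⟩ :=
      semi ψ T.hs h T.sW ⊤ (fun _ _ => mem_top _) (fun _ _ => mem_top _) (mem_top w0) hw0
    exact hv1 (T.pairW z e hzo (h.order T.hs he he1) (commute_closure haz.symm hbz.symm he) v
      (by rw [hzk]; rfl) hev)
  obtain ⟨a, b, hab⟩ := T.es
  obtain ⟨g0, hg0m, hg01, hg0z⟩ := hab.exists_commute T.hs T.hq hzo (hnc a) (hnc b)
  have hg0 : orderOf g0 = s := hab.order T.hs hg0m hg01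
  obtain ⟨g, hgm, hgz⟩ : ∃ g ∈ closure ({a, b} : Set H), ¬ Commute g z := by
    by_contra hh
    push Not at hh
    exact hab.nmem (hline a b hab.ox hab.oy (hh a left_mem_closure) (hh b right_mem_closure) hab.comm)
  have hg : orderOf g = s := hab.order T.hs hgm fun e => hgz (e ▸ Commute.one_left z)
  -- `g0` centralizes the `t`-core
  have hRg0 : ∀ r ∈ Cfsg.pCore t H, Commute g0 r := by
    set A := closure ({a, b} : Set H) with hA
    haveI : IsMulCommutative A := ⟨⟨fun u v => Subtype.ext (hab.commute u.2 v.2).eq⟩⟩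
    have hAc : ¬ IsCyclic A := by
      intro hcy
      obtain ⟨c, hc⟩ := hcy.exists_generator
      have hc1 : (c : H) ≠ 1 := fun e => by
        obtain ⟨k, hk⟩ := mem_zpowers_iff.1 (hc ⟨a, left_mem_closure⟩)
        refine hab.x_ne T.hs ?_
        have := congrArg Subtype.val hk
        simpa [e] using this.symm
      have hsub : ∀ u ∈ A, u ∈ zpowers (c : H) := fun u hu => by
        obtain ⟨k, hk⟩ := mem_zpowers_iff.1 (hc ⟨u, hu⟩)
        exact mem_zpowers_iff.2 ⟨k, by simpa using congrArg Subtype.val hk⟩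
      apply hab.nmem
      rw [zpowers_eq_of_mem T.hs (hab.order T.hs c.2 hc1) (hsub a left_mem_closure) (hab.x_ne T.hs)]
      exact hsub b right_mem_closure
    have hcop : (Nat.card A).Coprime (Nat.card (Cfsg.pCore t H)) := by
      obtain ⟨k, hk⟩ := IsPGroup.iff_card.1 (show IsPGroup s A from
        fun u => ⟨1, Subtype.ext (by simpa using hab.closure_pow u.2)⟩)
      obtain ⟨l, hl⟩ := IsPGroup.iff_card.1 (Core.pCore_isPGroup t H)
      rw [hk, hl]
      exact (((Nat.coprime_primes T.hs T.hq).2 T.hne.symm).pow_left k).pow_right l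
    have hle := Coprime.le_iSup_centralizer_of_not_isCyclic (A := A) (G := Cfsg.pCore t H) hAc
      (by rw [normalizer_eq_top]; exact le_top) hcop
    intro r hr
    refine (mem_centralizer_singleton_iff.1 (SetLike.le_def.1 (iSup_le fun d => ?_) (hle hr))).symm
    intro u hu
    obtain ⟨huR, huc⟩ := mem_inf.1 hu
    have hud : Commute u (d : H) := mem_centralizer_singleton_iff.1 huc
    have hdo : orderOf (d : H) = s := hab.order T.hs d.2.1 d.2.2
    by_cases hdz : Commute (d : H) z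
    · obtain ⟨k, hk⟩ := mem_zpowers_iff.1 (hline d g0 hdo hg0 hdz hg0z (hab.commute d.2.1 hg0m))
      exact mem_centralizer_singleton_iff.2 (hk ▸ hud.zpow_right k).eq
    · suffices u = 1 by subst this; exact one_mem _
      by_contra hu1
      obtain ⟨k, hk⟩ := IsPGroup.iff_orderOf.1 (Core.pCore_isPGroup t H) ⟨u, huR⟩
      rw [Subgroup.orderOf_mk] at hk
      obtain ⟨k, rfl⟩ : ∃ j, k = j + 1 := ⟨k - 1, by
        rcases k with _ | k
        · exact absurd (orderOf_eq_one_iff.1 (by simpa using hk)) hu1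
        · omega⟩
      have hp : orderOf (u ^ t ^ k) = t := by
        rw [orderOf_pow_of_dvd (pow_ne_zero _ T.hq.ne_zero) (by rw [hk]; exact pow_dvd_pow t (by omega)), hk,
          pow_succ, Nat.mul_div_cancel_left _ (pow_pos T.hq.pos _)]
      have hm := hpair _ d hp hdo (hud.pow_left _)
      have hm' : z ∈ zpowers (u ^ t ^ k) :=
        (zpowers_eq_of_mem T.hq hzo hm (ne_one_of_orderOf T.hq hp)).symm ▸ mem_zpowers z
      obtain ⟨j, hj⟩ := mem_zpowers_iff.1 hm'
      exact hdz (hj ▸ ((hud.pow_left _).symm.zpow_right j))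
  -- the `s`-core
  have hzR : z ∈ Cfsg.pCore t H :=
    Core.le_pCore (N := zpowers z) (IsPGroup.of_card (n := 1) (by rw [Nat.card_zpowers, hzo, pow_one]))
      (mem_zpowers z)
  have hTz : ∀ u ∈ Cfsg.pCore s H, Commute u z := by
    intro u hu
    have hmem : u * z * u⁻¹ * z⁻¹ ∈ Cfsg.pCore s H := by
      have := mul_mem hu ((inferInstance : (Cfsg.pCore s H).Normal).conj_mem _ (inv_mem hu) z)
      simpa [mul_assoc] using this
    have hmem' : u * z * u⁻¹ * z⁻¹ ∈ zpowers z := mul_mem (hnc u) (inv_mem (mem_zpowers z))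
    obtain ⟨k, hk⟩ := IsPGroup.iff_orderOf.1 (Core.pCore_isPGroup s H) ⟨_, hmem⟩
    rw [Subgroup.orderOf_mk] at hk
    exact mul_inv_eq_iff_eq_mul.1 (mul_inv_eq_one.1 (orderOf_eq_one_iff.1 (Nat.eq_one_of_dvd_coprimes
      (((Nat.coprime_primes T.hq T.hs).2 T.hne).pow_right k) (hzo ▸ orderOf_dvd_of_mem_zpowers hmem')
      (hk ▸ dvd_rfl))))
  have hTne : Cfsg.pCore s H ≠ ⊥ := fun e => by
    have h1 := centralizer_cores T.hq T.hs T.hcard (x := g0) hRg0
      (fun u hu => by rw [e, mem_bot] at hu; exact hu ▸ Commute.one_right g0)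
    rw [e, sup_bot_eq] at h1
    obtain ⟨k, hk⟩ := IsPGroup.iff_orderOf.1 (Core.pCore_isPGroup t H) ⟨g0, h1⟩
    rw [Subgroup.orderOf_mk, hg0] at hk
    exact T.hne ((Nat.prime_dvd_prime_iff_eq T.hs T.hq).1 (T.hs.dvd_of_dvd_pow (dvd_of_eq hk))).symm
  obtain ⟨w, hwT, hwo, hwg, hwcom⟩ : ∃ w ∈ Cfsg.pCore s H, orderOf w = s ∧ Commute g0 w ∧
      ∀ u ∈ Cfsg.pCore s H, Commute u w := by
    set P := zpowers g0 ⊔ Cfsg.pCore s H with hP
    have hPp : IsPGroup s P := (IsPGroup.of_card (n := 1) (by rw [Nat.card_zpowers, hg0, pow_one]) :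
      IsPGroup s (zpowers g0)).to_sup_of_normal_right (Core.pCore_isPGroup s H)
    haveI : ((Cfsg.pCore s H).subgroupOf P).Normal := inferInstance
    have hne : (Cfsg.pCore s H).subgroupOf P ⊓ Subgroup.center P ≠ ⊥ :=
      PGroup.inf_center_ne_bot hPp (fun e => hTne (by
        rw [subgroupOf_eq_bot, disjoint_iff, inf_eq_left.2 le_sup_right] at e
        exact e))
    obtain ⟨u, hu, hu1⟩ := (bot_or_exists_ne_one _).resolve_left hne
    obtain ⟨k, hk⟩ := IsPGroup.iff_orderOf.1 hPp u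
    obtain ⟨k, rfl⟩ : ∃ j, k = j + 1 := ⟨k - 1, by
      rcases k with _ | k
      · exact absurd (orderOf_eq_one_iff.1 (by simpa using hk)) hu1
      · omega⟩
    have hm := pow_mem hu (s ^ k)
    refine ⟨((u ^ s ^ k : P) : H), hm.1, ?_, ?_, fun v hv => ?_⟩
    · rw [Subgroup.orderOf_coe, orderOf_pow_of_dvd (pow_ne_zero _ T.hs.ne_zero)
        (by rw [hk]; exact pow_dvd_pow s (by omega)), hk, pow_succ, Nat.mul_div_cancel_left _ (pow_pos T.hs.pos _)]
    · exact congrArg Subtype.val (Subgroup.mem_center_iff.1 hm.2 ⟨g0, le_sup_left (b := Cfsg.pCore s H) (mem_zpowers g0)⟩)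
    · exact congrArg Subtype.val (Subgroup.mem_center_iff.1 hm.2 ⟨v, le_sup_right (a := zpowers g0) hv⟩)
  have hwz := hTz w hwT
  have hg0w : g0 ∈ zpowers w := hline w g0 hwo hg0 hwz hg0z hwg.symm
  have hzw : zpowers g0 = zpowers w := zpowers_eq_of_mem T.hs hwo hg0w hg01
  have hg0n : (zpowers g0).Normal := by
    refine ⟨fun u hu c => ?_⟩
    rw [hzw] at hu ⊢
    by_cases h1 : c * u * c⁻¹ = 1
    · rw [h1]; exact one_mem _
    have hcu : c * u * c⁻¹ ∈ Cfsg.pCore s H :=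
      (inferInstance : (Cfsg.pCore s H).Normal).conj_mem u (zpowers_le.2 hwT hu) c
    refine hline w _ hwo (orderOf_eq_prime ?_ h1) hwz (hTz _ hcu) (hwcom _ hcu).symm
    rw [conj_pow, orderOf_dvd_iff_pow_eq_one.1 (hwo ▸ orderOf_dvd_of_mem_zpowers hu), mul_one, mul_inv_cancel]
  have hgg0 : Commute g g0 := commute_of_normal_line T.hs hg0 ⟨1, by rw [pow_one, ← hg, pow_orderOf_eq_one]⟩
    (hg0n.conj_mem g0 (mem_zpowers g0) g)
  -- an element of order `t` moving `g0`
  obtain ⟨x, y, hxy⟩ := T.eq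
  obtain ⟨e, he, hen⟩ : ∃ e, orderOf e = t ∧ e ∉ zpowers z := by
    by_cases hxz : x ∈ zpowers z
    · exact ⟨y, hxy.oy, fun hyz => hxy.nmem (by rw [zpowers_eq_of_mem T.hq hzo hxz (hxy.x_ne T.hq)]; exact hyz)⟩
    · exact ⟨x, hxy.ox, hxz⟩
  have heg0 : ¬ Commute e g0 := fun hc => hen (hpair e g0 he hg0 hc)
  let D : Subgroup H := centralizer ((zpowers z : Subgroup H) : Set H) ⊓ centralizer ((zpowers g0 : Subgroup H) : Set H)
  haveI := hg0n
  haveI hDn : D.Normal := inferInstance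
  have hDmem : ∀ u : H, u ∈ D ↔ Commute u z ∧ Commute u g0 := by
    intro u
    constructor
    · rintro ⟨h1, h2⟩
      exact ⟨(mem_centralizer_iff.1 h1 z (mem_zpowers z)).symm, (mem_centralizer_iff.1 h2 g0 (mem_zpowers g0)).symm⟩
    · rintro ⟨h1, h2⟩
      refine ⟨mem_centralizer_iff.2 fun v hv => ?_, mem_centralizer_iff.2 fun v hv => ?_⟩
      · obtain ⟨k, rfl⟩ := mem_zpowers_iff.1 hv
        exact (h1.zpow_right k).eq.symm
      · obtain ⟨k, rfl⟩ := mem_zpowers_iff.1 hv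
        exact (h2.zpow_right k).eq.symm
  have hab2 : ∀ (L : H) (_ : (zpowers L).Normal) (c d : H), c * d * L * (c * d)⁻¹ = d * c * L * (d * c)⁻¹ := by
    intro L hL c d
    obtain ⟨i, hi⟩ := mem_zpowers_iff.1 (hL.conj_mem L (mem_zpowers L) c)
    obtain ⟨j, hj⟩ := mem_zpowers_iff.1 (hL.conj_mem L (mem_zpowers L) d)
    calc c * d * L * (c * d)⁻¹ = c * (d * L * d⁻¹) * c⁻¹ := by group
      _ = L ^ (i * j) := by rw [← hj, ← conj_zpow, ← hi, ← zpow_mul]
      _ = d * (c * L * c⁻¹) * d⁻¹ := by rw [mul_comm i j, zpow_mul, hj, conj_zpow, hi]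
      _ = _ := by group
  have hDab : ∀ c d : H, (d * c)⁻¹ * (c * d) ∈ D := by
    intro c d
    rw [hDmem]
    have key : ∀ L : H, (zpowers L).Normal → Commute ((d * c)⁻¹ * (c * d)) L := by
      intro L hL
      show _ * _ = _ * _
      calc (d * c)⁻¹ * (c * d) * L = (d * c)⁻¹ * (c * d * L * (c * d)⁻¹) * (c * d) := by group
        _ = L * ((d * c)⁻¹ * (c * d)) := by rw [hab2 L hL c d]; group
    exact ⟨key z hzn, key g0 hg0n⟩
  set π := QuotientGroup.mk' D with hπ
  have hπc : ∀ c d : H, π c * π d = π d * π c := fun c d => by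
    rw [← map_mul, ← map_mul]
    exact (QuotientGroup.eq.2 (hDab c d)).symm
  let U : Subgroup H := (zpowers (π g)).comap π
  haveI hUn : U.Normal := ⟨fun u hu c => by
    show π (c * u * c⁻¹) ∈ zpowers (π g)
    rw [map_mul, map_mul, hπc c u, mul_assoc, ← map_mul, mul_inv_cancel, map_one, mul_one]
    exact hu⟩
  have hπgs : π g ^ s = 1 := by rw [← map_pow, ← hg, pow_orderOf_eq_one, map_one]
  have hUs : ∀ u ∈ U, π u ^ s = 1 := by
    intro u hu
    obtain ⟨k, hk⟩ := mem_zpowers_iff.1 (show π u ∈ zpowers (π g) from hu)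
    rw [← hk, ← zpow_natCast (π g ^ k), ← zpow_mul, mul_comm, zpow_mul, zpow_natCast, hπgs, one_zpow]
  let gU : U := ⟨g, mem_zpowers (π g)⟩
  obtain ⟨S, hS⟩ := (IsPGroup.of_card (n := 1)
    (by rw [Nat.card_zpowers, ← Subgroup.orderOf_coe, pow_one]; exact hg) : IsPGroup s (zpowers gU)).exists_le_sylow
  set S' := (S : Subgroup U).map U.subtype with hS'
  have hS'p : IsPGroup s S' := S.isPGroup'.map _
  have hgS : g ∈ S' := ⟨gU, hS (mem_zpowers gU), rfl⟩
  have hsup : normalizer (S' : Set H) ⊔ U = ⊤ := Sylow.normalizer_sup_eq_top S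
  obtain ⟨n, hn, u, hu, hnu⟩ : ∃ n ∈ normalizer (S' : Set H), ∃ u ∈ U, n * u = e := by
    have hm : e ∈ ((normalizer (S' : Set H) ⊔ U : Subgroup H) : Set H) := by rw [hsup]; trivial
    rw [Subgroup.mul_normal _ U, Set.mem_mul] at hm
    exact hm
  set m := orderOf n / t ^ (orderOf n).factorization t with hm
  set f1 := n ^ (m * s) with hf1
  have hf1n : f1 ∈ normalizer (S' : Set H) := pow_mem hn _
  have hπe : π e ^ t = 1 := by rw [← map_pow, ← he, pow_orderOf_eq_one, map_one]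
  have hπf : π f1 = π e ^ (m * s) := by
    rw [hf1, map_pow, ← hnu, map_mul, (show Commute (π n) (π u) from hπc n u).mul_pow, mul_comm m s,
      pow_mul (π u), hUs u hu, one_pow, mul_one]
  have hf1t : ∃ k, f1 ^ t ^ k = 1 := ⟨(orderOf n).factorization t, orderOf_dvd_iff_pow_eq_one.1 (by
    refine (orderOf_dvd_of_pow_eq_one ?_)
    rw [hf1, ← pow_mul, show m * s * t ^ (orderOf n).factorization t = orderOf n * s by
      rw [hm, mul_right_comm, Nat.div_mul_cancel (Nat.ordProj_dvd _ _)], pow_mul, pow_orderOf_eq_one, one_pow])⟩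
  have hf1D : f1 ∉ D := by
    intro hD
    have h1 : π e ^ (m * s) = 1 := hπf ▸ (QuotientGroup.eq_one_iff f1).2 hD
    have hco : t.Coprime (m * s) :=
      Nat.Coprime.mul_right ((T.hq.coprime_iff_not_dvd).2 (Nat.not_dvd_ordCompl T.hq (orderOf_pos n).ne'))
        ((Nat.coprime_primes T.hq T.hs).2 T.hne)
    have h2 : π e = 1 := orderOf_eq_one_iff.1 (Nat.eq_one_of_dvd_coprimes hco (orderOf_dvd_of_pow_eq_one hπe)
      (orderOf_dvd_of_pow_eq_one h1))
    exact heg0 ((hDmem e).1 ((QuotientGroup.eq_one_iff e).1 h2)).2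
  have hf1p : f1 ^ t = 1 := by
    by_contra hne
    have hD : f1 ^ t ∈ D := (QuotientGroup.eq_one_iff _).1 (by
      show π (f1 ^ t) = 1
      rw [map_pow, hπf, ← pow_mul, mul_comm, pow_mul, hπe, one_pow])
    obtain ⟨k, hk⟩ := hf1t
    have hk' : (f1 ^ t) ^ t ^ k = 1 := by rw [← pow_mul, mul_comm, pow_mul, hk, one_pow]
    obtain ⟨j, hj, hjo⟩ := (Nat.dvd_prime_pow T.hq).1 (orderOf_dvd_of_pow_eq_one hk')
    rcases j with _ | j
    · exact hne (orderOf_eq_one_iff.1 (by simpa using hjo))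
    have hp : orderOf ((f1 ^ t) ^ t ^ j) = t := by
      rw [orderOf_pow_of_dvd (pow_ne_zero _ T.hq.ne_zero) (by rw [hjo]; exact pow_dvd_pow t (by omega)), hjo,
        pow_succ, Nat.mul_div_cancel_left _ (pow_pos T.hq.pos _)]
    have hmem := hpair _ g0 hp hg0 ((hDmem _).1 (pow_mem hD _)).2
    have hzN : z ∈ normalizer (S' : Set H) := by
      have : z ∈ zpowers ((f1 ^ t) ^ t ^ j) :=
        (zpowers_eq_of_mem T.hq hzo hmem (ne_one_of_orderOf T.hq hp)).symm ▸ mem_zpowers z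
      exact zpowers_le.2 (pow_mem (pow_mem hf1n _) _) this
    have hc1 : z * g * z⁻¹ * g⁻¹ ∈ S' := mul_mem ((mem_normalizer_iff.1 hzN g).1 hgS) (inv_mem hgS)
    have hc2 : z * g * z⁻¹ * g⁻¹ ∈ zpowers z := by
      have := mul_mem (mem_zpowers z) (hzn.conj_mem _ (inv_mem (mem_zpowers z)) g)
      simpa [mul_assoc] using this
    obtain ⟨i, hi⟩ := IsPGroup.iff_orderOf.1 hS'p ⟨_, hc1⟩
    rw [Subgroup.orderOf_mk] at hi
    exact hgz (mul_inv_eq_iff_eq_mul.1 (mul_inv_eq_one.1 (orderOf_eq_one_iff.1 (Nat.eq_one_of_dvd_coprimes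
      (((Nat.coprime_primes T.hq T.hs).2 T.hne).pow_right i) (hzo ▸ orderOf_dvd_of_mem_zpowers hc2)
      (hi ▸ dvd_rfl))))).symm
  have hf1o : orderOf f1 = t := orderOf_eq_prime hf1p fun e => hf1D (e ▸ one_mem _)
  have hf1z : f1 ∉ zpowers z := fun hm => hf1D <| (hDmem f1).2 ⟨hqq f1 hf1o, by
    obtain ⟨k, hk⟩ := mem_zpowers_iff.1 hm
    exact hk ▸ (hg0z.symm.zpow_left k)⟩
  -- a fixed element of the coset of `g`
  obtain ⟨d, hd, c, hc, hgdc⟩ := Coprime.exists_mul_centralizer_of_commutator_mem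
    (A := zpowers f1) (G := S') (zpowers_le.2 hf1n) (by
      obtain ⟨i, hi⟩ := IsPGroup.iff_card.1 hS'p
      rw [Nat.card_zpowers, hf1o, hi]
      exact ((Nat.coprime_primes T.hq T.hs).2 T.hne).pow_right i)
    (Or.inl inferInstance) (N := S' ⊓ D) inf_le_left (by
      refine zpowers_le.2 (mem_normalizer_iff.2 fun v => ?_)
      rw [mem_inf, mem_inf]
      refine and_congr (mem_normalizer_iff.1 hf1n v) ⟨fun hv => hDn.conj_mem v hv f1, fun hv => ?_⟩
      have h2 : f1⁻¹ * (f1 * v * f1⁻¹) * f1⁻¹⁻¹ ∈ D := hDn.conj_mem _ hv f1⁻¹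
      rwa [show f1⁻¹ * (f1 * v * f1⁻¹) * f1⁻¹⁻¹ = v by group] at h2) hgS (fun v hv => by
      refine mem_inf.2 ⟨?_, (QuotientGroup.eq_one_iff _).1 ?_⟩
      · rw [commutatorElement_def, mul_assoc g, mul_assoc g]
        exact mul_mem hgS ((mem_normalizer_iff.1 ((zpowers_le.2 hf1n) hv) g⁻¹).1 (inv_mem hgS))
      · show π ⁅g, v⁆ = 1
        rw [commutatorElement_def, map_mul, map_mul, map_mul, hπc g v, mul_assoc (π v), ← map_mul π g,
          mul_inv_cancel, map_one, mul_one, ← map_mul, mul_inv_cancel, map_one])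
  obtain ⟨hcS, hcc⟩ := mem_inf.1 hc
  have hcf : Commute f1 c := mem_centralizer_iff.1 hcc f1 (mem_zpowers f1)
  have hcD : c ∉ D := fun h => hgz ((hDmem g).1 (hgdc ▸ mul_mem hd.2 h)).1
  have hcs : c ^ s = 1 := by
    by_contra hne
    have hD : c ^ s ∈ D := (QuotientGroup.eq_one_iff _).1 (by
      show π (c ^ s) = 1
      rw [map_pow, ← hπgs, hgdc, map_mul, show π d = 1 from (QuotientGroup.eq_one_iff d).2 hd.2, one_mul])
    obtain ⟨i, hi⟩ := IsPGroup.iff_orderOf.1 hS'p ⟨_, pow_mem hcS s⟩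
    rw [Subgroup.orderOf_mk] at hi
    rcases i with _ | i
    · exact hne (orderOf_eq_one_iff.1 (by simpa using hi))
    have hp : orderOf ((c ^ s) ^ s ^ i) = s := by
      rw [orderOf_pow_of_dvd (pow_ne_zero _ T.hs.ne_zero) (by rw [hi]; exact pow_dvd_pow s (by omega)), hi,
        pow_succ, Nat.mul_div_cancel_left _ (pow_pos T.hs.pos _)]
    obtain ⟨hz', hg0'⟩ := (hDmem _).1 (pow_mem hD (s ^ i))
    have hm := hline g0 _ hg0 hp hg0z hz' hg0'.symm
    have hm' : g0 ∈ zpowers ((c ^ s) ^ s ^ i) :=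
      (zpowers_eq_of_mem T.hs hg0 hm (ne_one_of_orderOf T.hs hp)).symm ▸ mem_zpowers g0
    obtain ⟨j, hj⟩ := mem_zpowers_iff.1 hm'
    exact hf1z (hpair f1 g0 hf1o hg0 (hj ▸ ((hcf.pow_right s).pow_right _).zpow_right j))
  exact hf1z (hpair f1 c hf1o (orderOf_eq_prime hcs fun e => hcD (e ▸ one_mem _)) hcf)

theorem One.false (T : One φ ψ q s) : False := by
  obtain ⟨f, l, hf, hl, hc⟩ := T.ex
  rcases T.one f l hf hl hc with h | h
  · exact T.false_aux hf h
  · exact T.symm.false_aux hl h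

end Cfsg.Lib.Solv.TriFree
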