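import Cfsg.Agent.Lib.Solv.TriFree.OneMod
import Cfsg.Agent.Lib.Solv.Hall
import Cfsg.Agent.Lib.PGroup.OddNormalElementary
import Cfsg.Agent.Lib.PGroup.Noncyclic
import Mathlib.Tactic.Tauto

/-!
A solvable group with three primes on a coprime module in which every pair of primes is joined and
no element order has three prime divisors, counting the characteristic of the module.
-/

set_option autoImplicit false

namespace Cfsg.Lib.Solv.TriFree

open Subgroup
open scoped commutatorElement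

variable {K : Type*} [Group K] [Finite K] {V : Type*} [CommGroup V] [Finite V]
variable (φ : K →* MulAut V) (σ : Finset ℕ)

/-- The hypotheses. -/
structure Three : Prop where
  card3 : σ.card = 3
  prime : ∀ a ∈ σ, a.Prime
  sol : Group.IsSolvable K
  hcard : ∀ t, t.Prime → t ∣ Nat.card K → t ∈ σ
  cop : ∀ a ∈ σ, ¬ a ∣ Nat.card V
  ntV : ∃ v : V, v ≠ 1
  rank : ∀ a ∈ σ, ∃ x y : K, Ind a x y
  pairs : ∀ a ∈ σ, ∀ b ∈ σ, a ≠ b → ∃ x y : K, orderOf x = a ∧ orderOf y = b ∧ Commute x y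
  fix : ∀ a ∈ σ, ∀ b ∈ σ, a ≠ b → ∀ x y : K, orderOf x = a → orderOf y = b → Commute x y →
    ∀ v, φ x v = v → φ y v = v → v = 1
  tri : ∀ a ∈ σ, ∀ b ∈ σ, ∀ c ∈ σ, a ≠ b → b ≠ c → a ≠ c → ∀ x y z : K,
    orderOf x = a → orderOf y = b → orderOf z = c → Commute x y → Commute y z → Commute x z → False
  star : ∀ a ∈ σ, ∀ b ∈ σ, ∀ c ∈ σ, a ≠ b → b ≠ c → a ≠ c → ∀ x y z : K,
    orderOf x = a → orderOf y = b → orderOf z = c → Commute x y → Commute x z → ∀ v, φ x v = v → v = 1

variable {φ σ}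

theorem Three.others (T : Three φ σ) {a : ℕ} (ha : a ∈ σ) :
    ∃ b c, b ∈ σ ∧ c ∈ σ ∧ a ≠ b ∧ b ≠ c ∧ a ≠ c ∧ ∀ t ∈ σ, t ≠ a → t = b ∨ t = c := by
  obtain ⟨b, c, hbc, he⟩ := Finset.card_eq_two.1 (show (σ.erase a).card = 2 by
    rw [Finset.card_erase_of_mem ha, T.card3])
  have hb : b ∈ σ.erase a := by rw [he]; simp
  have hc : c ∈ σ.erase a := by rw [he]; simp
  refine ⟨b, c, Finset.mem_of_mem_erase hb, Finset.mem_of_mem_erase hc, (Finset.ne_of_mem_erase hb).symm, hbc,
    (Finset.ne_of_mem_erase hc).symm, fun t ht hta => ?_⟩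
  have : t ∈ σ.erase a := Finset.mem_erase.2 ⟨hta, ht⟩
  simpa [he] using this

omit [Finite V] in
/-- Into a Hall subgroup by conjugation. -/
theorem exists_conj_pair {π : Set ℕ} {C : Subgroup K} (hsol : Group.IsSolvable K) (hC : Cfsg.IsPiHall π C)
    {b c : ℕ} (hbp : b.Prime) (hcp : c.Prime) (hb : b ∈ π) (hc : c ∈ π) {x y : K} (hx : x ^ b = 1)
    (hy : y ^ c = 1) (hxy : Commute x y) : ∃ g : K, g⁻¹ * x * g ∈ C ∧ g⁻¹ * y * g ∈ C := by
  haveI := hsol
  have hX : zpowers x ≤ centralizer ({y} : Set K) := zpowers_le.2 (mem_centralizer_singleton_iff.2 hxy.eq)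
  have hn : zpowers x ≤ normalizer (zpowers y : Set K) := by
    refine le_trans ?_ (centralizer_le_normalizer _)
    intro u hu
    refine mem_centralizer_iff.2 fun v hv => ?_
    obtain ⟨k, rfl⟩ := mem_zpowers_iff.1 hv
    exact (Commute.zpow_right (mem_centralizer_singleton_iff.1 (hX hu)) k).eq.symm
  obtain ⟨g, hg⟩ := Cfsg.Lib.Solv.le_conj_of_isPiHall hC (K := zpowers x ⊔ zpowers y) (by
    intro t ht htd
    haveI := Fact.mk ht
    obtain ⟨u, hu⟩ := exists_prime_orderOf_dvd_card' t htd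
    have hm : (u : K) ∈ ((zpowers x ⊔ zpowers y : Subgroup K) : Set K) := u.2
    rw [Subgroup.coe_mul_of_left_le_normalizer_right _ _ hn, Set.mem_mul] at hm
    obtain ⟨v, hv, w, hw, hvw⟩ := hm
    have hvwc : Commute v w := by
      obtain ⟨i, rfl⟩ := mem_zpowers_iff.1 hv
      obtain ⟨j, rfl⟩ := mem_zpowers_iff.1 hw
      exact hxy.zpow_zpow i j
    have hvb : v ^ b = 1 :=
      orderOf_dvd_iff_pow_eq_one.1 ((orderOf_dvd_of_mem_zpowers hv).trans (orderOf_dvd_of_pow_eq_one hx))
    have hwc : w ^ c = 1 :=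
      orderOf_dvd_iff_pow_eq_one.1 ((orderOf_dvd_of_mem_zpowers hw).trans (orderOf_dvd_of_pow_eq_one hy))
    have h1 : (u : K) ^ (b * c) = 1 := by
      rw [← hvw, hvwc.mul_pow, pow_mul, hvb, one_pow, mul_comm b c, pow_mul, hwc, one_pow, one_mul]
    have h2 := orderOf_dvd_of_pow_eq_one h1
    rw [Subgroup.orderOf_coe, hu] at h2
    rcases ht.dvd_mul.1 h2 with h | h
    · rwa [(Nat.prime_dvd_prime_iff_eq ht hbp).1 h]
    · rwa [(Nat.prime_dvd_prime_iff_eq ht hcp).1 h])
  exact ⟨g, Cfsg.Lib.Core.mem_conj_smul.1 (hg (le_sup_left (b := zpowers y) (mem_zpowers x))),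
    Cfsg.Lib.Core.mem_conj_smul.1 (hg (le_sup_right (a := zpowers x) (mem_zpowers y)))⟩

omit [Finite V] in
theorem orderOf_conj' (g x : K) : orderOf (g⁻¹ * x * g) = orderOf x := by
  have := MulEquiv.orderOf_eq (MulAut.conj g⁻¹) x
  simpa using this

omit [Finite V] in
theorem commute_conj' (g : K) {x y : K} (h : Commute x y) : Commute (g⁻¹ * x * g) (g⁻¹ * y * g) := by
  show _ * _ = _ * _
  calc g⁻¹ * x * g * (g⁻¹ * y * g) = g⁻¹ * (x * y) * g := by group
    _ = _ := by rw [h.eq]; group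

omit [Finite V] in
theorem exists_conj_ind {π : Set ℕ} {C : Subgroup K} (hsol : Group.IsSolvable K) (hC : Cfsg.IsPiHall π C)
    {b : ℕ} (hbp : b.Prime) (hb : b ∈ π) {x y : K} (h : Ind b x y) : ∃ x y : C, Ind b x y := by
  obtain ⟨g, hgx, hgy⟩ := exists_conj_pair hsol hC hbp hbp hb hb (h.ox ▸ pow_orderOf_eq_one x)
    (h.oy ▸ pow_orderOf_eq_one y) h.comm
  refine ⟨⟨_, hgx⟩, ⟨_, hgy⟩, ?_, ?_, Subtype.ext (commute_conj' g h.comm).eq, fun hm => h.nmem ?_⟩
  · rw [Subgroup.orderOf_mk, orderOf_conj', h.ox]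
  · rw [Subgroup.orderOf_mk, orderOf_conj', h.oy]
  · obtain ⟨k, hk⟩ := mem_zpowers_iff.1 hm
    refine mem_zpowers_iff.2 ⟨k, ?_⟩
    have h1 : (g⁻¹ * x * g) ^ k = g⁻¹ * y * g := by simpa using congrArg Subtype.val hk
    have h2 := congrArg (fun u => g * u * g⁻¹) h1
    simp only [← conj_zpow] at h2
    simpa [mul_assoc] using h2

omit [Finite V] in
theorem card_two_primes {π : Set ℕ} {C : Subgroup K} (hC : Cfsg.IsPiHall π C) {b c : ℕ}
    (hπ : π = {b, c}) : ∀ t, t.Prime → t ∣ Nat.card C → t = b ∨ t = c := fun t ht hd => by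
  have := hC.1 t ht hd
  simpa [hπ] using this

/-- An element of prime order moving a coprime normal abelian subgroup that acts faithfully fixes a
nontrivial point. -/
theorem exists_fixed_of_moves {a t : ℕ} (ha : a.Prime) (ht : t.Prime) (hat : a ≠ t) (M : Subgroup K) [M.Normal]
    (hMc : ∀ u ∈ M, ∀ v ∈ M, Commute u v) (hMa : ∀ u ∈ M, u ^ a = 1) (hacop : ¬ a ∣ Nat.card V)
    (hinj : ∀ x : K, (∀ v, φ x v = v) → x = 1) {x : K} (hx : orderOf x = t)
    (hmv : ∃ m ∈ M, ¬ Commute x m) : ∃ v, v ≠ 1 ∧ φ x v = v := by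
  haveI := Fact.mk ha
  have hMx : ∀ l ∈ M, x * l * x⁻¹ ∈ M := fun l hl => ‹M.Normal›.conj_mem l hl x
  let L1 : Subgroup K :=
    { carrier := {u | ∃ l ∈ M, u = x * l * x⁻¹ * l⁻¹}
      one_mem' := ⟨1, M.one_mem, by group⟩
      mul_mem' := by
        rintro _ _ ⟨l, hl, rfl⟩ ⟨m, hm, rfl⟩
        refine ⟨l * m, mul_mem hl hm, ?_⟩
        have hA : Commute l⁻¹ (x * m * x⁻¹ * m⁻¹) :=
          hMc _ (inv_mem hl) _ (mul_mem (hMx m hm) (inv_mem hm))
        calc x * l * x⁻¹ * l⁻¹ * (x * m * x⁻¹ * m⁻¹) = x * l * x⁻¹ * (l⁻¹ * (x * m * x⁻¹ * m⁻¹)) := by group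
          _ = x * l * x⁻¹ * ((x * m * x⁻¹ * m⁻¹) * l⁻¹) := by rw [hA.eq]
          _ = _ := by group
      inv_mem' := by
        rintro _ ⟨l, hl, rfl⟩
        refine ⟨l⁻¹, inv_mem hl, ?_⟩
        have hA : Commute l (x * l⁻¹ * x⁻¹) := hMc _ hl _ (hMx _ (inv_mem hl))
        calc (x * l * x⁻¹ * l⁻¹)⁻¹ = l * (x * l⁻¹ * x⁻¹) := by group
          _ = _ := by rw [hA.eq]; group }
  have hL1M : ∀ u ∈ L1, u ∈ M := by
    rintro _ ⟨l, hl, rfl⟩
    exact mul_mem (hMx l hl) (inv_mem hl)
  have hfpf : ∀ u ∈ L1, Commute u x → u = 1 := by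
    rintro u hu hux
    have hu' := hu
    obtain ⟨l, hl, hul⟩ := hu'
    have hpow : ∀ i : ℕ, x ^ i * l * (x ^ i)⁻¹ = u ^ i * l := by
      intro i
      induction i with
      | zero => simp
      | succ i ih =>
        calc x ^ (i + 1) * l * (x ^ (i + 1))⁻¹ = x * (x ^ i * l * (x ^ i)⁻¹) * x⁻¹ := by rw [pow_succ']; group
          _ = (x * u ^ i * x⁻¹) * (x * l * x⁻¹) := by rw [ih]; group
          _ = u ^ i * (u * l) := by
            rw [((hux.pow_left i).symm).eq, mul_inv_cancel_right, hul]; group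
          _ = u ^ (i + 1) * l := by rw [pow_succ, mul_assoc]
    have h1 := hpow t
    rw [show x ^ t = 1 by rw [← hx]; exact pow_orderOf_eq_one x] at h1
    have h2 : u ^ t = 1 := by simpa using h1.symm
    exact orderOf_eq_one_iff.1 (Nat.eq_one_of_dvd_coprimes ((Nat.coprime_primes ht ha).2 hat.symm)
      (orderOf_dvd_of_pow_eq_one h2) (orderOf_dvd_of_pow_eq_one (hMa u (hL1M u hu))))
  obtain ⟨m, hm, hxm⟩ := hmv
  obtain ⟨v, hv⟩ : ∃ v, φ (x * m * x⁻¹ * m⁻¹) v ≠ v := by
    by_contra hh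
    push Not at hh
    exact hxm (mul_inv_eq_iff_eq_mul.1 (mul_inv_eq_one.1 (hinj _ hh)))
  have hcop : (Nat.card V).Coprime (Nat.card L1) := by
    obtain ⟨k, hk⟩ := IsPGroup.iff_card.1 (show IsPGroup a L1 from
      fun u => ⟨1, Subtype.ext (by simpa using hMa _ (hL1M _ u.2))⟩)
    rw [hk]
    exact (((ha.coprime_iff_not_dvd).2 hacop).symm).pow_right k
  obtain ⟨w, -, hw1, hw⟩ := frob' φ ht L1 hx (fun u hu => by
      obtain ⟨l, hl, rfl⟩ := hu
      exact ⟨x * l * x⁻¹, hMx l hl, by group⟩) hfpf hcop ⊤ (fun _ _ => mem_top _)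
    (fun _ _ _ _ => mem_top _) ⟨_, ⟨m, hm, rfl⟩, v, mem_top _, hv⟩
  exact ⟨w, hw1, hw⟩

omit [Finite V] in
theorem card_elem {a : ℕ} (ha : a.Prime) {M : Subgroup K} (hMa : ∀ u ∈ M, u ^ a = 1) :
    ∃ n, Nat.card M = a ^ n :=
  haveI := Fact.mk ha
  IsPGroup.iff_card.1 (show IsPGroup a M from fun u => ⟨1, Subtype.ext (by simpa using hMa _ u.2)⟩)

omit [Finite V] in
theorem not_dvd_elem {a t : ℕ} (ha : a.Prime) (ht : t.Prime) (hat : a ≠ t) {M : Subgroup K}
    (hMa : ∀ u ∈ M, u ^ a = 1) : ¬ t ∣ Nat.card M := by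
  obtain ⟨n, hn⟩ := card_elem ha hMa
  rw [hn]
  exact fun h => hat ((Nat.prime_dvd_prime_iff_eq ht ha).1 (ht.dvd_of_dvd_pow h)).symm

/-- The case of a normal subgroup acting trivially. -/
theorem Three.kernel_case (T : Three φ σ) {a : ℕ} (ha : a ∈ σ) (M : Subgroup K) [M.Normal]
    (hMc : IsMulCommutative M) (hMa : ∀ u ∈ M, u ^ a = 1) (hM : M ≠ ⊥) (hMφ : ∀ u ∈ M, ∀ v, φ u v = v) : False := by
  obtain ⟨b, c, hb, hc, hab, hbc, hac, -⟩ := T.others ha
  haveI := T.sol
  obtain ⟨C, hC⟩ := exists_isPiHall ({b, c} : Set ℕ) K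
  have hap := T.prime a ha
  haveI := Fact.mk hap
  letI : CommGroup M := { (inferInstance : Group M) with mul_comm := hMc.is_comm.comm }
  have hord : ∀ u : M, u ≠ 1 → orderOf (u : K) = a := fun u hu =>
    orderOf_eq_prime (hMa u u.2) (fun e => hu (Subtype.ext e))
  have hcomm : ∀ (x : C) (m : M), (MulAut.conjNormal.comp C.subtype) x m = m → Commute (x : K) (m : K) :=
    fun x m h => mul_inv_eq_iff_eq_mul.1 (by simpa [MulAut.conjNormal_apply] using congrArg Subtype.val h)
  obtain ⟨m0, hm0, hm01⟩ := M.bot_or_exists_ne_one.resolve_left hM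
  obtain ⟨x, y, hxy⟩ := T.rank b hb
  obtain ⟨x', y', hxy'⟩ := T.rank c hc
  have key : Two (φ.comp C.subtype) (MulAut.conjNormal.comp C.subtype : C →* MulAut M) b c :=
    { hq := T.prime b hb, hs := T.prime c hc, hne := hbc, sol := inferInstance
      hcard := card_two_primes hC rfl
      qV := T.cop b hb, sV := T.cop c hc
      qW := not_dvd_elem hap (T.prime b hb) hab hMa, sW := not_dvd_elem hap (T.prime c hc) hac hMa
      ntV := T.ntV, ntW := ⟨⟨m0, hm0⟩, fun e => hm01 (congrArg Subtype.val e)⟩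
      one := by
        intro x hx v hv hv1 m hm
        by_contra hm1
        have hxc := hcomm x m hm
        rcases hx with h | h
        · exact hv1 (T.fix a ha b hb hab _ _ (hord m hm1) (by rw [Subgroup.orderOf_coe]; exact h) hxc.symm v (hMφ _ m.2 v) hv)
        · exact hv1 (T.fix a ha c hc hac _ _ (hord m hm1) (by rw [Subgroup.orderOf_coe]; exact h) hxc.symm v (hMφ _ m.2 v) hv)
      pairV := fun f l hf hl hfl v h1 h2 => T.fix b hb c hc hbc _ _ (by rw [Subgroup.orderOf_coe]; exact hf)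
        (by rw [Subgroup.orderOf_coe]; exact hl) (congrArg Subtype.val hfl) v h1 h2
      pairW := by
        intro f l hf hl hfl m h1 h2
        by_contra hm1
        exact T.tri a ha b hb c hc hab hbc hac _ _ _ (hord m hm1) (by rw [Subgroup.orderOf_coe]; exact hf)
          (by rw [Subgroup.orderOf_coe]; exact hl) (hcomm f m h1).symm (congrArg Subtype.val hfl) (hcomm l m h2).symm
      eq := exists_conj_ind T.sol hC (T.prime b hb) (by simp) hxy
      es := exists_conj_ind T.sol hC (T.prime c hc) (by simp) hxy' }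
  exact key.false

/-- The case of a noncyclic elementary abelian normal subgroup. -/
theorem Three.plane_case (T : Three φ σ) (hinj : ∀ x : K, (∀ v, φ x v = v) → x = 1) {a : ℕ} (ha : a ∈ σ)
    (M : Subgroup K) [M.Normal] (hMc : IsMulCommutative M) (hMa : ∀ u ∈ M, u ^ a = 1) {m1 m2 : K}
    (hm : Ind a m1 m2) (hm1 : m1 ∈ M) (hm2 : m2 ∈ M) : False := by
  obtain ⟨b, c, hb, hc, hab, hbc, hac, -⟩ := T.others ha
  haveI := T.sol
  obtain ⟨C, hC⟩ := exists_isPiHall ({b, c} : Set ℕ) K
  have hap := T.prime a ha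
  have hbp := T.prime b hb
  have hcp := T.prime c hc
  haveI := Fact.mk hap
  have hMcom : ∀ u ∈ M, ∀ v ∈ M, Commute u v := fun u hu v hv =>
    congrArg Subtype.val (hMc.is_comm.comm (⟨u, hu⟩ : M) ⟨v, hv⟩)
  letI : CommGroup M := { (inferInstance : Group M) with mul_comm := hMc.is_comm.comm }
  set ψ : C →* MulAut M := MulAut.conjNormal.comp C.subtype with hψ
  have hord : ∀ u : M, u ≠ 1 → orderOf (u : K) = a := fun u hu =>
    orderOf_eq_prime (hMa u u.2) (fun e => hu (Subtype.ext e))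
  have hcomm : ∀ (x : C) (m : M), ψ x m = m → Commute (x : K) (m : K) :=
    fun x m h => mul_inv_eq_iff_eq_mul.1 (by simpa [hψ, MulAut.conjNormal_apply] using congrArg Subtype.val h)
  have hone : ∀ x : C, (∀ m ∈ M, Commute (x : K) m) → ψ x = 1 := fun x h =>
    MulEquiv.ext fun m => Subtype.ext (by
      simp [hψ, MulAut.conjNormal_apply, (h m m.2).eq])
  obtain ⟨x, y, hxy⟩ := T.rank b hb
  obtain ⟨x', y', hxy'⟩ := T.rank c hc
  obtain ⟨f0, l0, hf0, hl0, hfl0⟩ := T.pairs b hb c hc hbc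
  obtain ⟨g, hgf, hgl⟩ := exists_conj_pair T.sol hC hbp hcp (by simp) (by simp) (hf0 ▸ pow_orderOf_eq_one f0)
    (hl0 ▸ pow_orderOf_eq_one l0) hfl0
  have key : One (φ.comp C.subtype) ψ b c :=
    { hq := hbp, hs := hcp, hne := hbc, sol := inferInstance
      hcard := card_two_primes hC rfl
      qV := T.cop b hb, sV := T.cop c hc
      qW := not_dvd_elem hap hbp hab hMa, sW := not_dvd_elem hap hcp hac hMa
      ntV := T.ntV
      ntW := ⟨⟨m1, hm1⟩, fun e => hm.x_ne hap (congrArg Subtype.val e)⟩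
      inj := fun x h => Subtype.ext (hinj x h)
      semiV := by
        intro x hx hψx v hv
        by_contra hv1
        have hxm : ∀ m ∈ M, Commute (x : K) m := fun m hm' => hcomm x ⟨m, hm'⟩ (by rw [hψx]; rfl)
        obtain ⟨e, he, he1, w, hw, hw1, hew⟩ := semi φ hap hm (T.cop a ha) (fixSub φ (x : K))
          (fun _ => fixSub_inv φ (hxm m1 hm1).symm) (fun _ => fixSub_inv φ (hxm m2 hm2).symm) hv hv1
        have hxe := commute_closure (hxm m1 hm1) (hxm m2 hm2) he
        rcases hx with h | h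
        · exact hw1 (T.fix b hb a ha hab.symm _ _ (by rw [Subgroup.orderOf_coe]; exact h) (hm.order hap he he1) hxe w hw hew)
        · exact hw1 (T.fix c hc a ha hac.symm _ _ (by rw [Subgroup.orderOf_coe]; exact h) (hm.order hap he he1) hxe w hw hew)
      one := by
        intro f l hf hl hfl
        have hfK : orderOf (f : K) = b := by rw [Subgroup.orderOf_coe]; exact hf
        have hlK : orderOf (l : K) = c := by rw [Subgroup.orderOf_coe]; exact hl
        have hflK : Commute (f : K) (l : K) := congrArg Subtype.val hfl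
        by_contra hno
        rw [not_or] at hno
        obtain ⟨hfn, hln⟩ := hno
        have hfm : ∃ m ∈ M, ¬ Commute (f : K) m := by
          by_contra h; push Not at h; exact hfn (hone f h)
        have hlm : ∃ m ∈ M, ¬ Commute (l : K) m := by
          by_contra h; push Not at h; exact hln (hone l h)
        obtain ⟨v, hv1, hv⟩ := exists_fixed_of_moves hap hbp hab M hMcom hMa (T.cop a ha) hinj hfK hfm
        obtain ⟨v', hv'1, hv'⟩ := exists_fixed_of_moves hap hcp hac M hMcom hMa (T.cop a ha) hinj hlK hlm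
        have hf1 : ∀ s ∈ M, Commute s (f : K) → s = 1 := fun s hs hsc => by
          by_contra hs1
          exact hv1 (T.star b hb a ha c hc hab.symm hac hbc _ s _ hfK (orderOf_eq_prime (hMa s hs) hs1) hlK
            hsc.symm hflK v hv)
        have hl1 : ∀ s ∈ M, Commute s (l : K) → s = 1 := fun s hs hsc => by
          by_contra hs1
          exact hv'1 (T.star c hc a ha b hb hac.symm hab hbc.symm _ s _ hlK (orderOf_eq_prime (hMa s hs) hs1) hfK
            hsc.symm hflK.symm v' hv')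
        have hyo : orderOf ((f : K) * l) = b * c := by
          rw [hflK.orderOf_mul_eq_mul_orderOf_of_coprime (by rw [hfK, hlK]; exact (Nat.coprime_primes hbp hcp).2 hbc),
            hfK, hlK]
        have hfz : (f : K) ^ b = 1 := hfK ▸ pow_orderOf_eq_one _
        have hlz : (l : K) ^ c = 1 := hlK ▸ pow_orderOf_eq_one _
        obtain ⟨v0, hv0⟩ : ∃ v, φ m1 v ≠ v := by
          by_contra hh; push Not at hh; exact hm.x_ne hap (hinj m1 hh)
        obtain ⟨k, hk⟩ := card_elem hap hMa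
        obtain ⟨w, -, hw1, hw⟩ := frob φ M (y := (f : K) * l) (fun s hs => ‹M.Normal›.conj_mem s hs _)
          (fun i hi0 hin s hs hsc => by
            rw [hyo] at hin
            by_cases hbi : b ∣ i
            · have hci : ¬ c ∣ i := fun h => absurd (Nat.le_of_dvd hi0
                (((Nat.coprime_primes hbp hcp).2 hbc).mul_dvd_of_dvd_of_dvd hbi h)) (not_le.2 hin)
              have hp : ((f : K) * l) ^ (i * b) = (l : K) ^ (i * b) := by
                rw [hflK.mul_pow, mul_comm i b, pow_mul, hfz, one_pow, one_mul, pow_mul]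
              refine hl1 s hs (mem_centralizer_singleton_iff.1
                (mem_of_pow_mem (S := centralizer ({s} : Set K)) (n := i * b) ?_ ?_)).symm
              · rw [hlK]; exact Nat.Coprime.mul_left ((hcp.coprime_iff_not_dvd).2 hci).symm ((Nat.coprime_primes hbp hcp).2 hbc)
              · rw [← hp, pow_mul]; exact mem_centralizer_singleton_iff.2 (hsc.pow_right b).eq.symm
            · have hp : ((f : K) * l) ^ (i * c) = (f : K) ^ (i * c) := by
                rw [hflK.mul_pow, mul_comm i c, pow_mul (l : K), hlz, one_pow, mul_one]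
              refine hf1 s hs (mem_centralizer_singleton_iff.1
                (mem_of_pow_mem (S := centralizer ({s} : Set K)) (n := i * c) ?_ ?_)).symm
              · rw [hfK]; exact Nat.Coprime.mul_left ((hbp.coprime_iff_not_dvd).2 hbi).symm ((Nat.coprime_primes hcp hbp).2 hbc.symm)
              · rw [← hp, pow_mul]; exact mem_centralizer_singleton_iff.2 (hsc.pow_right c).eq.symm)
          (by rw [hk]; exact (((hap.coprime_iff_not_dvd).2 (T.cop a ha)).symm).pow_right k)
          ⊤ (fun _ _ => mem_top _) (fun _ _ _ _ => mem_top _) ⟨m1, hm1, v0, mem_top _, hv0⟩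
        have hwf : φ (f : K) w = w := by
          have h1 := fix_pow φ hw c
          rw [hflK.mul_pow, hlz, mul_one] at h1
          obtain ⟨j, hj⟩ := exists_pow_eq_self_of_coprime
            (show c.Coprime (orderOf (f : K)) by rw [hfK]; exact (Nat.coprime_primes hcp hbp).2 hbc.symm)
          rw [← hj]; exact fix_pow φ h1 j
        have hwl : φ (l : K) w = w := by
          have h1 := fix_pow φ hw b
          rw [hflK.mul_pow, hfz, one_mul] at h1
          obtain ⟨j, hj⟩ := exists_pow_eq_self_of_coprime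
            (show b.Coprime (orderOf (l : K)) by rw [hlK]; exact (Nat.coprime_primes hbp hcp).2 hbc)
          rw [← hj]; exact fix_pow φ h1 j
        exact hw1 (T.fix b hb c hc hbc _ _ hfK hlK hflK w hwf hwl)
      pairW := by
        intro f l hf hl hfl m h1 h2
        by_contra hm1'
        exact T.tri a ha b hb c hc hab hbc hac _ _ _ (hord m hm1') (by rw [Subgroup.orderOf_coe]; exact hf)
          (by rw [Subgroup.orderOf_coe]; exact hl) (hcomm f m h1).symm (congrArg Subtype.val hfl) (hcomm l m h2).symm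
      ex := ⟨⟨_, hgf⟩, ⟨_, hgl⟩, by rw [Subgroup.orderOf_mk, orderOf_conj', hf0],
        by rw [Subgroup.orderOf_mk, orderOf_conj', hl0], Subtype.ext (commute_conj' g hfl0).eq⟩
      eq := exists_conj_ind T.sol hC hbp (by simp) hxy
      es := exists_conj_ind T.sol hC hcp (by simp) hxy' }
  exact key.false

end Cfsg.Lib.Solv.TriFree
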