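import Cfsg.Agent.Lib.Solv.TriFree.Basic
import Cfsg.Agent.Lib.Core.Layer
import Cfsg.Agent.Lib.Core.Fitting
import Cfsg.Agent.Lib.Core.PSolvable
import Cfsg.Agent.Lib.Fusion.Alperin
import Cfsg.Agent.Lib.PGroup.OddOmega

/-!
A solvable group with two primes acting on two coprime modules so that no element of prime order
fixes points in both.
-/

set_option autoImplicit false

namespace Cfsg.Lib.Solv.TriFree

open Subgroup

variable {H : Type*} [Group H] [Finite H] {V W : Type*} [CommGroup V] [Finite V] [CommGroup W] [Finite W]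

omit [Finite H] in
theorem mem_of_mem_sup {a b : ℕ} (ha : a.Prime) (hb : b.Prime) (hab : a ≠ b) {A B : Subgroup H} [A.Normal]
    (hBb : IsPGroup b B) {x : H} (hx : orderOf x = a) (hxm : x ∈ A ⊔ B) : x ∈ A := by
  haveI := Fact.mk hb
  have hx' : x ∈ ((A ⊔ B : Subgroup H) : Set H) := hxm
  rw [Subgroup.normal_mul A B, Set.mem_mul] at hx'
  obtain ⟨u, hu, v, hv, huv⟩ := hx'
  obtain ⟨k, hk⟩ := IsPGroup.iff_orderOf.1 hBb ⟨v, hv⟩
  rw [Subgroup.orderOf_mk] at hk
  have hq : (QuotientGroup.mk' A) x = (QuotientGroup.mk' A) v := by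
    rw [← huv, map_mul, show (QuotientGroup.mk' A) u = 1 from (QuotientGroup.eq_one_iff u).2 hu, one_mul]
  refine (QuotientGroup.eq_one_iff x).1 (show (QuotientGroup.mk' A) x = 1 from orderOf_eq_one_iff.1 ?_)
  refine Nat.eq_one_of_dvd_coprimes (((Nat.coprime_primes ha hb).2 hab).pow_right k) ?_ ?_
  · rw [← hx]; exact orderOf_map_dvd _ x
  · rw [← hk, hq]; exact orderOf_map_dvd _ v

theorem core_le_sylow {p : ℕ} [Fact p.Prime] (S : Sylow p H) : Cfsg.pCore p H ≤ (S : Subgroup H) := by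
  have h : (S : Subgroup H) ⊔ Cfsg.pCore p H = S :=
    S.3 (S.isPGroup'.to_sup_of_normal_right (Core.pCore_isPGroup p H)) le_sup_left
  rw [← h]
  exact le_sup_right

/-- In a solvable group with two primes, centralizing both cores forces membership. -/
theorem centralizer_cores {q s : ℕ} (hq : q.Prime) (hs : s.Prime) [Group.IsSolvable H]
    (hcard : ∀ t, t.Prime → t ∣ Nat.card H → t = q ∨ t = s) {x : H}
    (hxq : ∀ t ∈ Cfsg.pCore q H, Commute x t) (hxs : ∀ t ∈ Cfsg.pCore s H, Commute x t) :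
    x ∈ Cfsg.pCore q H ⊔ Cfsg.pCore s H := by
  haveI := Fact.mk hq
  haveI := Fact.mk hs
  have hle : Cfsg.fittingSubgroup H ≤ Cfsg.pCore q H ⊔ Cfsg.pCore s H := by
    rw [Core.fittingSubgroup_eq_iSup_pCore]
    refine iSup_le fun t => ?_
    haveI := Fact.mk t.2
    by_cases ht : (t : ℕ) ∣ Nat.card H
    · rcases hcard _ t.2 ht with h | h <;> rw [h]
      · exact le_sup_left
      · exact le_sup_right
    · have : Cfsg.pCore (t : ℕ) H = ⊥ := by
        obtain ⟨n, hn⟩ := IsPGroup.iff_card.1 (Core.pCore_isPGroup (t : ℕ) H)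
        rcases n with _ | n
        · exact Subgroup.card_eq_one.1 (by simpa using hn)
        · exact absurd (((dvd_pow_self _ (by omega)).trans (hn ▸ Subgroup.card_subgroup_dvd_card _))) ht
      rw [this]; exact bot_le
  refine hle (Core.centralizer_fitting_le_of_isSolvable (mem_centralizer_iff.2 fun t ht => ?_))
  have hC : Cfsg.pCore q H ⊔ Cfsg.pCore s H ≤ centralizer ({x} : Set H) :=
    sup_le (fun t ht => mem_centralizer_singleton_iff.2 (hxq t ht).eq.symm)
      (fun t ht => mem_centralizer_singleton_iff.2 (hxs t ht).eq.symm)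
  exact mem_centralizer_singleton_iff.1 (hC (hle ht))

variable (φ : H →* MulAut V) (ψ : H →* MulAut W) {q s : ℕ}

/-- The hypotheses. -/
structure Two (q s : ℕ) : Prop where
  hq : q.Prime
  hs : s.Prime
  hne : q ≠ s
  sol : Group.IsSolvable H
  hcard : ∀ t, t.Prime → t ∣ Nat.card H → t = q ∨ t = s
  qV : ¬ q ∣ Nat.card V
  sV : ¬ s ∣ Nat.card V
  qW : ¬ q ∣ Nat.card W
  sW : ¬ s ∣ Nat.card W
  ntV : ∃ v : V, v ≠ 1
  ntW : ∃ w : W, w ≠ 1
  one : ∀ x : H, (orderOf x = q ∨ orderOf x = s) → ∀ v, φ x v = v → v ≠ 1 → ∀ w, ψ x w = w → w = 1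
  pairV : ∀ f l : H, orderOf f = q → orderOf l = s → Commute f l → ∀ v, φ f v = v → φ l v = v → v = 1
  pairW : ∀ f l : H, orderOf f = q → orderOf l = s → Commute f l → ∀ v, ψ f v = v → ψ l v = v → v = 1
  eq : ∃ x y : H, Ind q x y
  es : ∃ x y : H, Ind s x y

variable {φ ψ}

theorem Two.symm (T : Two φ ψ q s) : Two φ ψ s q :=
  ⟨T.hs, T.hq, T.hne.symm, T.sol, fun t ht hd => (T.hcard t ht hd).symm, T.sV, T.qV, T.sW, T.qW, T.ntV, T.ntW,
    fun x hx => T.one x hx.symm, fun f l hf hl hc v h1 h2 => T.pairV l f hl hf hc.symm v h2 h1,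
    fun f l hf hl hc v h1 h2 => T.pairW l f hl hf hc.symm v h2 h1, T.es, T.eq⟩

theorem Two.swap (T : Two φ ψ q s) : Two ψ φ q s :=
  ⟨T.hq, T.hs, T.hne, T.sol, T.hcard, T.qW, T.sW, T.qV, T.sV, T.ntW, T.ntV,
    fun x hx v hv hv1 w hw => by
      by_contra hw1
      exact hv1 (T.one x hx w hw hw1 v hv),
    T.pairW, T.pairV, T.eq, T.es⟩

theorem Two.line_aux (T : Two φ ψ q s) {w x y : H} (hw : orderOf w = s) (h : Ind q x y)
    (hx : x * w * x⁻¹ ∈ zpowers w) (hy : y * w * y⁻¹ ∈ zpowers w) {e0 : H}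
    (he0 : e0 ∈ closure ({x, y} : Set H)) (he0w : ¬ Commute e0 w) (hV : ∀ v, φ w v = v) : False := by
  obtain ⟨v0, hv0⟩ := T.ntV
  obtain ⟨w0, hw0⟩ := T.ntW
  have hwW : ψ w w0 ≠ w0 := fun h1 => hw0 (T.one w (Or.inr hw) v0 (hV v0) hv0 w0 h1)
  obtain ⟨e, he, he1, v, -, hv1, hev⟩ :=
    semi φ T.hq h T.qV ⊤ (fun _ _ => mem_top _) (fun _ _ => mem_top _) (mem_top v0) hv0
  have heq := h.order T.hq he he1
  by_cases hc : Commute e w
  · exact hv1 (T.pairV e w heq hw hc v hev (hV v))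
  · have hn : closure ({x, y} : Set H) ≤ normalizer (zpowers w : Set H) := by
      rw [closure_le]
      have hk : ∀ z : H, z * w * z⁻¹ ∈ zpowers w → z ∈ normalizer (zpowers w : Set H) := fun z hz => by
        refine mem_normalizer_iff_map_conj_eq.2 (eq_of_le_of_card_ge ?_ ?_)
        · rintro _ ⟨a, ha, rfl⟩
          obtain ⟨k, rfl⟩ := mem_zpowers_iff.1 ha
          show z * w ^ k * z⁻¹ ∈ zpowers w
          rw [← conj_zpow]
          exact zpow_mem hz k
        · exact (card_map_of_injective (MulAut.conj z).injective).ge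
      rintro z (rfl | rfl)
      · exact hk _ hx
      · exact hk _ hy
    obtain ⟨u, -, hu1, heu⟩ := frobLine ψ T.hq T.hs heq hw
      ((mem_normalizer_iff.1 (hn he) w).1 (mem_zpowers w)) hc T.sW ⊤ (fun _ _ => mem_top _)
      (fun _ _ => mem_top _) (mem_top w0) hwW
    exact hu1 (T.one e (Or.inl heq) v hev hv1 u heu)

theorem Two.line (T : Two φ ψ q s) {w x y : H} (hw : orderOf w = s) (h : Ind q x y)
    (hx : x * w * x⁻¹ ∈ zpowers w) (hy : y * w * y⁻¹ ∈ zpowers w) :
    Commute x w ∧ Commute y w ∧ (∀ v, φ w v = v → v = 1) ∧ (∀ v, ψ w v = v → v = 1) := by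
  have hcom : ∀ e ∈ closure ({x, y} : Set H), Commute e w := by
    intro e he
    by_contra hc
    by_cases hV : ∀ v, φ w v = v
    · exact T.line_aux hw h hx hy he hc hV
    by_cases hW : ∀ v, ψ w v = v
    · exact T.swap.line_aux hw h hx hy he hc hW
    push Not at hV hW
    obtain ⟨v0, hv0⟩ := hV
    obtain ⟨w0, hw0⟩ := hW
    have heq := h.order T.hq he fun e1 => hc (e1 ▸ Commute.one_left w)
    have hem : e * w * e⁻¹ ∈ zpowers w := by
      have hn : ∀ d ∈ closure ({x, y} : Set H), ∀ t ∈ zpowers w, d * t * d⁻¹ ∈ zpowers w ∧ d⁻¹ * t * d ∈ zpowers w := by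
        have hk : ∀ z : H, z * w * z⁻¹ ∈ zpowers w → z ∈ normalizer (zpowers w : Set H) := fun z hz => by
          refine mem_normalizer_iff_map_conj_eq.2 (eq_of_le_of_card_ge ?_ ?_)
          · rintro _ ⟨a, ha, rfl⟩
            obtain ⟨k, rfl⟩ := mem_zpowers_iff.1 ha
            show z * w ^ k * z⁻¹ ∈ zpowers w
            rw [← conj_zpow]
            exact zpow_mem hz k
          · exact (card_map_of_injective (MulAut.conj z).injective).ge
        have hle : closure ({x, y} : Set H) ≤ normalizer (zpowers w : Set H) := by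
          rw [closure_le]
          rintro z (rfl | rfl)
          · exact hk _ hx
          · exact hk _ hy
        intro d hd t ht
        exact ⟨(mem_normalizer_iff.1 (hle hd) t).1 ht, by
          simpa using (mem_normalizer_iff.1 (hle (inv_mem hd)) t).1 ht⟩
      exact (hn e he w (mem_zpowers w)).1
    obtain ⟨v, -, hv1, hev⟩ := frobLine φ T.hq T.hs heq hw hem hc T.sV ⊤ (fun _ _ => mem_top _)
      (fun _ _ => mem_top _) (mem_top v0) hv0
    obtain ⟨u, -, hu1, heu⟩ := frobLine ψ T.hq T.hs heq hw hem hc T.sW ⊤ (fun _ _ => mem_top _)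
      (fun _ _ => mem_top _) (mem_top w0) hw0
    exact hu1 (T.one e (Or.inl heq) v hev hv1 u heu)
  have hcx := hcom x left_mem_closure
  have hcy := hcom y right_mem_closure
  refine ⟨hcx, hcy, fun v hv => ?_, fun v hv => ?_⟩
  · by_contra hv1
    obtain ⟨e, he, he1, u, hu, hu1, heu⟩ := semi φ T.hq h T.qV (fixSub φ w)
      (fun _ => fixSub_inv φ hcx) (fun _ => fixSub_inv φ hcy) hv hv1
    exact hu1 (T.pairV e w (h.order T.hq he he1) hw (hcom e he) u heu hu)
  · by_contra hv1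
    obtain ⟨e, he, he1, u, hu, hu1, heu⟩ := semi ψ T.hq h T.qW (fixSub ψ w)
      (fun _ => fixSub_inv ψ hcx) (fun _ => fixSub_inv ψ hcy) hv hv1
    exact hu1 (T.pairW e w (h.order T.hq he he1) hw (hcom e he) u heu hu)

/-- No normal elementary abelian subgroup of rank at least two. -/
theorem Two.no_plane (T : Two φ ψ q s) (L : Subgroup H) [L.Normal] (hLc : ∀ a ∈ L, ∀ b ∈ L, Commute a b)
    (hLs : ∀ a ∈ L, a ^ s = 1) {a b : H} (hab : Ind s a b) (ha : a ∈ L) (hb : b ∈ L) : False := by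
  haveI := Fact.mk T.hs
  obtain ⟨x, y, h⟩ := T.eq
  obtain ⟨v0, hv0⟩ := T.ntV
  obtain ⟨e, he, he1, v, -, hv1, hev⟩ :=
    semi φ T.hq h T.qV ⊤ (fun _ _ => mem_top _) (fun _ _ => mem_top _) (mem_top v0) hv0
  have heq := h.order T.hq he he1
  have hLe : ∀ l ∈ L, e * l * e⁻¹ ∈ L := fun l hl => ‹L.Normal›.conj_mem l hl e
  let L1 : Subgroup H :=
    { carrier := {t | ∃ l ∈ L, t = e * l * e⁻¹ * l⁻¹}
      one_mem' := ⟨1, L.one_mem, by group⟩
      mul_mem' := by
        rintro _ _ ⟨l, hl, rfl⟩ ⟨m, hm, rfl⟩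
        refine ⟨l * m, mul_mem hl hm, ?_⟩
        have hA : Commute l⁻¹ (e * m * e⁻¹ * m⁻¹) :=
          hLc _ (inv_mem hl) _ (mul_mem (hLe m hm) (inv_mem hm))
        calc e * l * e⁻¹ * l⁻¹ * (e * m * e⁻¹ * m⁻¹) = e * l * e⁻¹ * (l⁻¹ * (e * m * e⁻¹ * m⁻¹)) := by group
          _ = e * l * e⁻¹ * ((e * m * e⁻¹ * m⁻¹) * l⁻¹) := by rw [hA.eq]
          _ = _ := by group
      inv_mem' := by
        rintro _ ⟨l, hl, rfl⟩
        refine ⟨l⁻¹, inv_mem hl, ?_⟩
        have hA : Commute l (e * l⁻¹ * e⁻¹) := hLc _ hl _ (hLe _ (inv_mem hl))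
        calc (e * l * e⁻¹ * l⁻¹)⁻¹ = l * (e * l⁻¹ * e⁻¹) := by group
          _ = _ := by rw [hA.eq]; group }
  have hL1L : ∀ t ∈ L1, t ∈ L := by
    rintro _ ⟨l, hl, rfl⟩
    exact mul_mem (hLe l hl) (inv_mem hl)
  have hfpf : ∀ t ∈ L1, Commute t e → t = 1 := by
    rintro t ht hte
    have ht' := ht
    obtain ⟨l, hl, htl⟩ := ht'
    have hpow : ∀ i : ℕ, e ^ i * l * (e ^ i)⁻¹ = t ^ i * l := by
      intro i
      induction i with
      | zero => simp
      | succ i ih =>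
        calc e ^ (i + 1) * l * (e ^ (i + 1))⁻¹ = e * (e ^ i * l * (e ^ i)⁻¹) * e⁻¹ := by rw [pow_succ']; group
          _ = (e * t ^ i * e⁻¹) * (e * l * e⁻¹) := by rw [ih]; group
          _ = t ^ i * (t * l) := by
            rw [((hte.pow_left i).symm).eq, mul_inv_cancel_right, htl]; group
          _ = t ^ (i + 1) * l := by rw [pow_succ, mul_assoc]
    have h1 := hpow q
    rw [show e ^ q = 1 by rw [← heq]; exact pow_orderOf_eq_one e] at h1
    have h2 : t ^ q = 1 := by simpa using h1.symm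
    exact orderOf_eq_one_iff.1 (Nat.eq_one_of_dvd_coprimes ((Nat.coprime_primes T.hq T.hs).2 T.hne)
      (orderOf_dvd_of_pow_eq_one h2) (orderOf_dvd_of_pow_eq_one (hLs t (hL1L t ht))))
  have hW : ∀ t ∈ L1, ∀ w, ψ t w = w := by
    by_contra hmov
    push Not at hmov
    obtain ⟨t, ht, w, hwt⟩ := hmov
    have hcop : (Nat.card W).Coprime (Nat.card L1) := by
      obtain ⟨k, hk⟩ := IsPGroup.iff_card.1 (show IsPGroup s L1 from
        fun t => ⟨1, Subtype.ext (by simpa using hLs _ (hL1L _ t.2))⟩)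
      rw [hk]
      exact (((T.hs.coprime_iff_not_dvd).2 T.sW).symm).pow_right k
    obtain ⟨u, -, hu1, heu⟩ := frob' ψ T.hq L1 heq (fun t ht => by
        obtain ⟨l, hl, rfl⟩ := ht
        exact ⟨e * l * e⁻¹, hLe l hl, by group⟩) hfpf hcop ⊤ (fun _ _ => mem_top _)
      (fun _ _ _ _ => mem_top _) ⟨t, ht, w, mem_top _, hwt⟩
    exact hu1 (T.one e (Or.inl heq) v hev hv1 u heu)
  obtain ⟨w0, hw0⟩ := T.ntW
  have hsord : ∀ t ∈ L, t ≠ 1 → orderOf t = s := fun t ht ht1 => orderOf_eq_prime (hLs t ht) ht1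
  have hL1 : ∀ t ∈ L1, t = 1 := by
    by_contra hne
    push Not at hne
    obtain ⟨t1, ht1, ht11⟩ := hne
    have hsub : ∀ t ∈ L1, t ∈ zpowers t1 := by
      intro t ht
      by_contra htn
      have hi : Ind s t1 t := ⟨hsord _ (hL1L _ ht1) ht11,
        hsord _ (hL1L _ ht) fun e1 => htn (e1 ▸ one_mem _), hLc _ (hL1L _ ht1) _ (hL1L _ ht), htn⟩
      obtain ⟨d, hd, hd1, u, -, hu1, hdu⟩ :=
        semi φ T.hs hi T.sV ⊤ (fun _ _ => mem_top _) (fun _ _ => mem_top _) (mem_top v0) hv0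
      have hdL : d ∈ L1 := (closure_le L1).2 (by rintro z (rfl | rfl); exacts [ht1, ht]) hd
      exact hw0 (T.one d (Or.inr (hi.order T.hs hd hd1)) u hdu hu1 w0 (hW d hdL w0))
    have hnorm : ∀ z ∈ closure ({x, y} : Set H), z * t1 * z⁻¹ ∈ zpowers t1 := by
      intro z hz
      apply hsub
      obtain ⟨l, hl, hl'⟩ := ht1
      refine ⟨z * l * z⁻¹, ‹L.Normal›.conj_mem l hl z, ?_⟩
      rw [hl']
      calc z * (e * l * e⁻¹ * l⁻¹) * z⁻¹ = (z * e) * l * (z * e)⁻¹ * (z * l * z⁻¹)⁻¹ := by group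
        _ = (e * z) * l * (e * z)⁻¹ * (z * l * z⁻¹)⁻¹ := by rw [(h.commute hz he).eq]
        _ = _ := by group
    obtain ⟨c1, c2, -⟩ := T.line (hsord _ (hL1L _ ht1) ht11) h (hnorm x left_mem_closure) (hnorm y right_mem_closure)
    exact ht11 (hfpf t1 ht1 (commute_closure c1.symm c2.symm he))
  have hcomm : ∀ l ∈ L, Commute e l := fun l hl =>
    mul_inv_eq_iff_eq_mul.1 (mul_inv_eq_one.1 (hL1 _ ⟨l, hl, rfl⟩))
  obtain ⟨d, hd, hd1, u, hu, hu1, hdu⟩ := semi φ T.hs hab T.sV (fixSub φ e)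
    (fun _ => fixSub_inv φ (hcomm a ha).symm) (fun _ => fixSub_inv φ (hcomm b hb).symm)
    (show v ∈ fixSub φ e from hev) hv1
  exact hu1 (T.pairV e d heq (hab.order T.hs hd hd1) (commute_closure (hcomm a ha) (hcomm b hb) hd) u hu hdu)

/-- A normal subgroup of prime order in a group of prime power order commutes with it. -/
theorem commute_of_normal_line {s : ℕ} (hs : s.Prime) {w g : H} (hw : orderOf w = s)
    (hg : ∃ k : ℕ, g ^ s ^ k = 1) (hn : g * w * g⁻¹ ∈ zpowers w) : Commute g w := by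
  haveI := Fact.mk hs
  obtain ⟨m, hm⟩ := (mem_powers_iff_mem_zpowers).2 hn
  have it : ∀ i : ℕ, g ^ i * w * (g ^ i)⁻¹ = w ^ (m ^ i) := by
    intro i
    induction i with
    | zero => simp
    | succ i ih =>
      calc g ^ (i + 1) * w * (g ^ (i + 1))⁻¹ = g * (g ^ i * w * (g ^ i)⁻¹) * g⁻¹ := by rw [pow_succ']; group
        _ = g * w ^ (m ^ i) * g⁻¹ := by rw [ih]
        _ = w ^ (m ^ (i + 1)) := by rw [← conj_pow, ← hm, ← pow_mul, pow_succ']
  obtain ⟨k, hk⟩ := hg
  have h1 := it (s ^ k)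
  rw [hk] at h1
  simp only [one_mul, inv_one, mul_one] at h1
  have h2 : m ^ s ^ k ≡ 1 [MOD orderOf w] := pow_eq_pow_iff_modEq.1 (by rw [← h1, pow_one])
  rw [hw, ← ZMod.natCast_eq_natCast_iff] at h2
  push_cast at h2
  rw [ZMod.pow_card_pow] at h2
  have h3 : w ^ m = w ^ 1 :=
    pow_eq_pow_iff_modEq.2 (by rw [hw, ← ZMod.natCast_eq_natCast_iff, h2, Nat.cast_one])
  rw [pow_one] at h3
  exact mul_inv_eq_iff_eq_mul.1 (hm.symm.trans h3)

/-- In a Sylow subgroup with a semiregular central line all elements of prime order are central. -/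
theorem Two.central (T : Two φ ψ q s) {S : Subgroup H} (hS : IsPGroup s S) {w : H} (hwS : w ∈ S)
    (hw : orderOf w = s) (hwc : ∀ g ∈ S, Commute g w) (hwV : ∀ v, φ w v = v → v = 1)
    (hwW : ∀ v, ψ w v = v → v = 1) {f : H} (hfS : f ∈ S) (hf : orderOf f = s) :
    ∀ g ∈ S, Commute g f := by
  haveI := Fact.mk T.hs
  by_contra hno
  push Not at hno
  obtain ⟨g0, hg0, hg0f⟩ := hno
  have hfw : f ∉ zpowers w := fun hm => by
    obtain ⟨k, rfl⟩ := mem_zpowers_iff.1 hm
    exact hg0f ((hwc g0 hg0).zpow_right k)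
  set C := S ⊓ centralizer ({f} : Set H) with hC
  have hlt : C < S := lt_of_le_of_ne inf_le_left fun e =>
    hg0f (mem_centralizer_singleton_iff.1 (e.ge hg0).2)
  obtain ⟨g, hgm, hgC⟩ := SetLike.exists_of_lt (Fusion.lt_inf_normalizer hS hlt)
  obtain ⟨hgS, hgN⟩ := mem_inf.1 hgm
  have hf' : g * f * g⁻¹ ∈ C := (mem_normalizer_iff.1 hgN f).1 ⟨hfS, mem_centralizer_singleton_iff.2 rfl⟩
  set c := f⁻¹ * (g * f * g⁻¹) with hc
  have hgc : g * f * g⁻¹ = f * c := by rw [hc, mul_inv_cancel_left]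
  have hff' : Commute (g * f * g⁻¹) f := mem_centralizer_singleton_iff.1 hf'.2
  have hc1 : c ≠ 1 := fun e => by
    rw [e, mul_one] at hgc
    exact hgC ⟨hgS, mem_centralizer_singleton_iff.2 (mul_inv_eq_iff_eq_mul.1 hgc)⟩
  have hfs : f ^ s = 1 := hf ▸ pow_orderOf_eq_one f
  have hcs : c ^ s = 1 := by
    rw [hc, ((hff'.symm).inv_left).mul_pow, inv_pow, hfs, conj_pow, hfs]; group
  have hco : orderOf c = s := orderOf_eq_prime hcs hc1
  have hcf : Commute c f := ((Commute.refl f).inv_left).mul_left hff'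
  have hcS : c ∈ S := mul_mem (inv_mem hfS) hf'.1
  have hwf : Ind s w f := ⟨hw, hf, (hwc f hfS).symm, hfw⟩
  obtain ⟨v0, hv0⟩ := T.ntV
  obtain ⟨w0, hw0⟩ := T.ntW
  by_cases hcm : c ∈ closure ({w, f} : Set H)
  · obtain ⟨i, j, hij⟩ := hwf.repr hcm
    have it : ∀ n : ℕ, ∃ z ∈ zpowers w, g ^ n * f * (g ^ n)⁻¹ = z * f ^ ((1 + j) ^ n) := by
      intro n
      induction n with
      | zero => exact ⟨1, one_mem _, by simp⟩
      | succ n ih =>
        obtain ⟨z, hz, hzn⟩ := ih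
        have hzg : Commute g z := by
          obtain ⟨k, rfl⟩ := mem_zpowers_iff.1 hz
          exact (hwc g hgS).zpow_right k
        refine ⟨z * (w ^ i) ^ ((1 + j) ^ n), mul_mem hz (pow_mem (npow_mem_zpowers w i) _), ?_⟩
        calc g ^ (n + 1) * f * (g ^ (n + 1))⁻¹ = g * (g ^ n * f * (g ^ n)⁻¹) * g⁻¹ := by rw [pow_succ']; group
          _ = (g * z * g⁻¹) * (g * f ^ ((1 + j) ^ n) * g⁻¹) := by rw [hzn]; group
          _ = z * (w ^ i * f ^ (1 + j)) ^ ((1 + j) ^ n) := by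
            rw [hzg.eq, mul_inv_cancel_right, ← conj_pow, hgc, hij]
            congr 2
            rw [← mul_assoc, ((hwc f hfS).pow_right i).eq, mul_assoc, ← pow_succ', add_comm]
          _ = _ := by rw [(hwf.comm.pow_pow i (1 + j)).mul_pow, ← pow_mul f, ← pow_succ', mul_assoc]
    obtain ⟨k, hk⟩ := hS ⟨g, hgS⟩
    obtain ⟨z, hz, hzn⟩ := it (s ^ k)
    rw [show g ^ s ^ k = 1 from congrArg Subtype.val hk] at hzn
    simp only [one_mul, inv_one, mul_one] at hzn
    -- the exponent is trivial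
    have hj : (j : ZMod s) = 0 := by
      by_contra hj0
      set M := (1 + j) ^ s ^ k with hM
      have hMj : (M : ZMod s) = 1 + j := by rw [hM]; push_cast; rw [ZMod.pow_card_pow]
      have h1 : f ^ (M + (s - 1)) ∈ zpowers w := by
        have h2 : f ^ M = z⁻¹ * f := eq_inv_mul_of_mul_eq hzn.symm
        rw [pow_add, h2, mul_assoc, ← pow_succ', show s - 1 + 1 = s by have := T.hs.pos; omega, hfs, mul_one]
        exact inv_mem hz
      refine hfw (mem_of_pow_mem ?_ h1)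
      rw [hf, Nat.coprime_comm, T.hs.coprime_iff_not_dvd, ← ZMod.natCast_eq_zero_iff]
      push_cast [Nat.cast_sub T.hs.one_le]
      rw [hMj]
      simpa using hj0
    have hcw : c = w ^ i := by
      rw [hij, show f ^ j = 1 from orderOf_dvd_iff_pow_eq_one.1
        (by rw [hf]; exact (ZMod.natCast_eq_zero_iff _ _).1 hj), mul_one]
    have hci : Ind s c f := ⟨hco, hf, hcf, fun hm => hfw (hcw ▸ hm |> fun h' => zpowers_le.2 (npow_mem_zpowers w i) h')⟩
    have hwc' : w ∈ zpowers c := (zpowers_eq_of_mem T.hs hw (hcw ▸ npow_mem_zpowers w i) hc1).symm ▸ mem_zpowers w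
    have hgcc : Commute g c := hcw ▸ (hwc g hgS).pow_right i
    obtain ⟨u, hu1, hfu⟩ := coset_fixed φ T.hs hci hgcc hgc T.sV (fun v hv => hwV v (fix_zpowers φ hv hwc')) hv0
    obtain ⟨u', hu1', hfu'⟩ := coset_fixed ψ T.hs hci hgcc hgc T.sW (fun v hv => hwW v (fix_zpowers ψ hv hwc')) hw0
    exact hu1' (T.one f (Or.inr hf) u hfu hu1 u' hfu')
  · -- rank three
    have hfc : Ind s f c := ⟨hf, hco, hcf.symm, fun hm => hcm (zpowers_le.2 right_mem_closure hm)⟩
    have hwcc : Commute w c := (hwc c hcS).symm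
    have hwn : w ∉ closure ({f, c} : Set H) := fun hm => by
      obtain ⟨u, v, huv⟩ := hfc.repr hm
      by_cases hv : s ∣ v
      · rw [show c ^ v = 1 from orderOf_dvd_iff_pow_eq_one.1 (by rw [hco]; exact hv), mul_one] at huv
        have hwm : w ∈ zpowers f := huv ▸ npow_mem_zpowers f u
        exact hfw ((zpowers_eq_of_mem T.hs hf hwm (fun e => T.hs.one_lt.ne (by rw [← hw, e, orderOf_one]))).symm ▸ mem_zpowers f)
      · apply hcm
        refine mem_of_pow_mem (n := v) (by rw [hco]; exact ((T.hs.coprime_iff_not_dvd).2 hv).symm) ?_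
        rw [show c ^ v = (f ^ u)⁻¹ * w by rw [huv]; group]
        exact mul_mem (inv_mem (pow_mem right_mem_closure u)) left_mem_closure
    obtain ⟨e, he, he1, m, -, hm1, hem⟩ :=
      semi φ T.hs hfc T.sV ⊤ (fun _ _ => mem_top _) (fun _ _ => mem_top _) (mem_top v0) hv0
    have heo := hfc.order T.hs he he1
    have hwe : Commute w e := commute_closure hwf.comm hwcc he
    obtain ⟨d, hdE, hdn⟩ : ∃ d ∈ closure ({f, c} : Set H), d ∉ zpowers e := by
      by_cases hfe : f ∈ zpowers e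
      · refine ⟨c, right_mem_closure, fun hce => hfc.nmem ?_⟩
        rw [zpowers_eq_of_mem T.hs heo hfe (hfc.x_ne T.hs)]
        exact hce
      · exact ⟨f, left_mem_closure, hfe⟩
    have hd1 : d ≠ 1 := fun e1 => hdn (e1 ▸ one_mem _)
    have hwd : Ind s w d := ⟨hw, hfc.order T.hs hdE hd1, commute_closure hwf.comm hwcc hdE, fun hdw => by
      apply hwn
      have : w ∈ zpowers d := (zpowers_eq_of_mem T.hs hw hdw hd1).symm ▸ mem_zpowers w
      exact zpowers_le.2 hdE this⟩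
    obtain ⟨e', he', he'1, m', hm', hm'1, he'm⟩ := semi φ T.hs hwd T.sV (fixSub φ e)
      (fun _ => fixSub_inv φ hwe) (fun _ => fixSub_inv φ (hfc.commute hdE he)) (show m ∈ fixSub φ e from hem) hm1
    have hce' : Commute e e' := commute_closure hwe.symm (hfc.commute he hdE) he'
    have hn : e' ∉ zpowers e := by
      intro hm2
      obtain ⟨i, j, hij⟩ := hwd.repr he'
      have he'E : e' ∈ closure ({f, c} : Set H) := zpowers_le.2 he hm2
      by_cases hi : s ∣ i
      · rw [show w ^ i = 1 from orderOf_dvd_iff_pow_eq_one.1 (by rw [hw]; exact hi), one_mul] at hij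
        have hm3 : e' ∈ zpowers d := hij ▸ npow_mem_zpowers d j
        apply hdn
        rw [← zpowers_eq_of_mem T.hs heo hm2 he'1, zpowers_eq_of_mem T.hs hwd.oy hm3 he'1]
        exact mem_zpowers d
      · apply hwn
        refine mem_of_pow_mem (n := i) (by rw [hw]; exact ((T.hs.coprime_iff_not_dvd).2 hi).symm) ?_
        rw [show w ^ i = e' * (d ^ j)⁻¹ by rw [hij]; group]
        exact mul_mem he'E (inv_mem (pow_mem hdE j))
    have hee : Ind s e e' := ⟨heo, hwd.order T.hs he' he'1, hce', hn⟩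
    obtain ⟨z, hz, hz1, u, -, hu1, hzu⟩ :=
      semi ψ T.hs hee T.sW ⊤ (fun _ _ => mem_top _) (fun _ _ => mem_top _) (mem_top w0) hw0
    have hzm : φ z m' = m' := by
      obtain ⟨i, j, rfl⟩ := hee.repr hz
      rw [← apply_apply, fix_pow φ he'm j, fix_pow φ (show φ e m' = m' from hm') i]
    exact hu1 (T.one z (Or.inr (hee.order T.hs hz hz1)) m' hzm hm'1 u hzu)

theorem Two.exists_line (T : Two φ ψ q s) {N : Subgroup H} [N.Normal] (hN : N ≠ ⊥) (hNs : IsPGroup s N) :
    ∃ w ∈ N, orderOf w = s ∧ (zpowers w).Normal := by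
  haveI := T.sol
  haveI := Fact.mk T.hs
  obtain ⟨L, ⟨hLn, hL1, hLN⟩, hmin⟩ := Set.Finite.exists_minimal
    (s := {L : Subgroup H | L.Normal ∧ L ≠ ⊥ ∧ L ≤ N}) (Set.toFinite _) ⟨N, inferInstance, hN, le_rfl⟩
  -- the centre of `N` meets `L`; take the elements of order dividing `s` in the centre
  have hLs : IsPGroup s L := hNs.to_le hLN
  let Z : Subgroup H :=
    { carrier := {t | t ∈ L ∧ t ^ s = 1 ∧ ∀ l ∈ L, Commute t l}
      one_mem' := ⟨one_mem _, one_pow _, fun l _ => Commute.one_left l⟩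
      mul_mem' := fun {a b} ha hb => ⟨mul_mem ha.1 hb.1, by
        rw [(ha.2.2 b hb.1).mul_pow, ha.2.1, hb.2.1, one_mul], fun l hl => (ha.2.2 l hl).mul_left (hb.2.2 l hl)⟩
      inv_mem' := fun {a} ha => ⟨inv_mem ha.1, by rw [inv_pow, ha.2.1, inv_one],
        fun l hl => (ha.2.2 l hl).inv_left⟩ }
  haveI hZn : Z.Normal := ⟨fun a ha g => ⟨hLn.conj_mem a ha.1 g, by
    rw [conj_pow, ha.2.1, mul_one, mul_inv_cancel], fun l hl => by
    have h1 := ha.2.2 (g⁻¹ * l * g) (by simpa using hLn.conj_mem l hl g⁻¹)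
    have h2 := congrArg (fun z => g * z * g⁻¹) h1.eq
    show _ * _ = _ * _
    simpa [mul_assoc] using h2⟩⟩
  have hnt : Nontrivial L := (Subgroup.nontrivial_iff_ne_bot L).2 hL1
  have hct := hLs.center_nontrivial
  obtain ⟨n, hn⟩ := IsPGroup.iff_card.1 (hLs.to_subgroup (Subgroup.center L))
  have hdvd : s ∣ Nat.card (Subgroup.center L) := by
    have := Finite.one_lt_card_iff_nontrivial.2 hct
    rcases n with _ | n
    · simp [hn] at this
    · rw [hn]; exact dvd_pow_self s (by omega)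
  obtain ⟨a, ha⟩ := exists_prime_orderOf_dvd_card' s hdvd
  have haZ : ((a : L) : H) ∈ Z := ⟨(a : L).2, by
    rw [← ha, ← Subgroup.orderOf_coe, ← Subgroup.orderOf_coe]; exact pow_orderOf_eq_one _, fun l hl =>
      congrArg Subtype.val (Subgroup.mem_center_iff.1 a.2 ⟨l, hl⟩).symm⟩
  have hao : orderOf ((a : L) : H) = s := by rw [Subgroup.orderOf_coe, Subgroup.orderOf_coe, ha]
  have hsub : ∀ b ∈ Z, b ∈ zpowers ((a : L) : H) := by
    intro b hb
    by_contra hbn
    exact T.no_plane Z (fun u hu v hv => hu.2.2 v hv.1) (fun u hu => hu.2.1)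
      ⟨hao, orderOf_eq_prime hb.2.1 (fun e => hbn (e ▸ one_mem _)), haZ.2.2 b hb.1, hbn⟩ haZ hb
  refine ⟨_, hLN (a : L).2, hao, ?_⟩
  have : zpowers ((a : L) : H) = Z := le_antisymm (zpowers_le.2 haZ) fun b hb => hsub b hb
  rw [this]
  exact hZn

/-- With a normal line at `s`, that prime is settled: every element of order `s` of the core lies in
the line, and a commuting pair of order `s` elements centralizes the core. -/
theorem Two.side (T : Two φ ψ q s) {w : H} (hw : orderOf w = s) (hwn : (zpowers w).Normal) :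
    (∀ t ∈ Cfsg.pCore s H, t ^ s = 1 → t ∈ zpowers w) ∧
    (∀ f, orderOf f = s → ∀ t ∈ Cfsg.pCore s H, Commute f t) ∧
    (∀ x y, Ind q x y → Commute x w ∧ Commute y w) := by
  haveI := Fact.mk T.hs
  haveI := hwn
  have hnc : ∀ g : H, g * w * g⁻¹ ∈ zpowers w := fun g => hwn.conj_mem w (mem_zpowers w) g
  obtain ⟨x, y, h⟩ := T.eq
  obtain ⟨-, -, hwV, hwW⟩ := T.line hw h (hnc x) (hnc y)
  have hwT : w ∈ Cfsg.pCore s H :=
    Core.le_pCore (N := zpowers w) (IsPGroup.of_card (n := 1) (by rw [Nat.card_zpowers, hw, pow_one]))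
      (mem_zpowers w)
  have hcen : ∀ S : Sylow s H, ∀ f ∈ (S : Subgroup H), orderOf f = s → ∀ g ∈ (S : Subgroup H), Commute g f :=
    fun S f hfS hf => T.central S.isPGroup' (core_le_sylow S hwT) hw (fun g hg => by
      obtain ⟨k, hk⟩ := S.isPGroup' ⟨g, hg⟩
      exact commute_of_normal_line T.hs hw ⟨k, congrArg Subtype.val hk⟩ (hnc g)) hwV hwW hfS hf
  refine ⟨?_, ?_, ?_⟩
  · have S : Sylow s H := default
    have hcomm : ∀ t ∈ Cfsg.pCore s H, t ^ s = 1 → ∀ u ∈ Cfsg.pCore s H, Commute t u := by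
      intro t ht hts u hu
      by_cases ht1 : t = 1
      · exact ht1 ▸ Commute.one_left u
      exact (hcen S t (core_le_sylow S ht) (orderOf_eq_prime hts ht1) u
        (core_le_sylow S hu)).symm
    let Z : Subgroup H :=
      { carrier := {t | t ∈ Cfsg.pCore s H ∧ t ^ s = 1}
        one_mem' := ⟨one_mem _, one_pow _⟩
        mul_mem' := fun {a b} ha hb => ⟨mul_mem ha.1 hb.1, by
          rw [(hcomm a ha.1 ha.2 b hb.1).mul_pow, ha.2, hb.2, one_mul]⟩
        inv_mem' := fun {a} ha => ⟨inv_mem ha.1, by rw [inv_pow, ha.2, inv_one]⟩ }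
    haveI : Z.Normal := ⟨fun a ha g => ⟨(inferInstance : (Cfsg.pCore s H).Normal).conj_mem a ha.1 g, by
      rw [conj_pow, ha.2, mul_one, mul_inv_cancel]⟩⟩
    intro t ht hts
    by_contra htn
    exact T.no_plane Z (fun u hu v hv => hcomm u hu.1 hu.2 v hv.1) (fun u hu => hu.2)
      ⟨hw, orderOf_eq_prime hts (fun e => htn (e ▸ one_mem _)),
        hcomm w hwT (hw ▸ pow_orderOf_eq_one w) t ht, htn⟩ ⟨hwT, hw ▸ pow_orderOf_eq_one w⟩ ⟨ht, hts⟩
  · intro f hf t ht
    obtain ⟨S, hS⟩ := (IsPGroup.of_card (n := 1) (by rw [Nat.card_zpowers, hf, pow_one]) :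
      IsPGroup s (zpowers f)).exists_le_sylow
    exact (hcen S f (hS (mem_zpowers f)) hf t (core_le_sylow S ht)).symm
  · intro a b hab
    exact ⟨(T.line hw hab (hnc a) (hnc b)).1, (T.line hw hab (hnc a) (hnc b)).2.1⟩

theorem Two.finish (T : Two φ ψ q s) {w z : H} (hw : orderOf w = s) (hwn : (zpowers w).Normal)
    (hz : orderOf z = q) (hzn : (zpowers z).Normal) (hs2 : s ≠ 2) : False := by
  haveI := Fact.mk T.hs
  haveI := T.sol
  haveI := Fact.mk T.hq
  obtain ⟨hT1, -, hTq⟩ := T.side hw hwn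
  obtain ⟨hQ1, hQ2, -⟩ := T.symm.side hz hzn
  obtain ⟨x, y, h⟩ := T.eq
  obtain ⟨hxw, hyw⟩ := hTq x y h
  have key : closure ({x, y} : Set H) ≤ centralizer (Cfsg.pCore s H : Set H) := by
    refine PGroup.le_centralizer_of_centralizes_omega hs2 _ _ (Core.pCore_isPGroup s H)
      (fun g _ => mem_normalizer_iff.2 fun t => ?_) ?_ fun t ht hts g hg => ?_
    · exact ⟨fun ht => (inferInstance : (Cfsg.pCore s H).Normal).conj_mem t ht g, fun ht => by
        simpa [mul_assoc] using (inferInstance : (Cfsg.pCore s H).Normal).conj_mem _ ht g⁻¹⟩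
    · obtain ⟨k, hk⟩ := IsPGroup.iff_card.1 (show IsPGroup q (closure ({x, y} : Set H)) from
        fun g => ⟨1, Subtype.ext (by simpa using h.closure_pow g.2)⟩)
      obtain ⟨l, hl⟩ := IsPGroup.iff_card.1 (Core.pCore_isPGroup s H)
      rw [hk, hl]
      exact (((Nat.coprime_primes T.hq T.hs).2 T.hne).pow_left k).pow_right l
    · obtain ⟨k, rfl⟩ := mem_zpowers_iff.1 (hT1 t ht hts)
      exact ((commute_closure hxw.symm hyw.symm hg).symm.zpow_right k).eq
  have hin : ∀ g, orderOf g = q → g ∈ closure ({x, y} : Set H) → g ∈ zpowers z := by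
    intro g hg hgm
    refine hQ1 g ?_ (hg ▸ pow_orderOf_eq_one g)
    refine mem_of_mem_sup T.hq T.hs T.hne (Core.pCore_isPGroup s H) hg ?_
    exact centralizer_cores T.hq T.hs T.hcard (fun t ht => hQ2 g hg t ht)
      (fun t ht => (mem_centralizer_iff.1 (key hgm) t ht).symm)
  have hx := hin x h.ox left_mem_closure
  have hy := hin y h.oy right_mem_closure
  rw [← zpowers_eq_of_mem T.hq hz hx (h.x_ne T.hq)] at hy
  exact h.nmem hy

theorem Two.false_aux (T : Two φ ψ q s) (hne : Cfsg.pCore s H ≠ ⊥) : False := by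
  haveI := Fact.mk T.hs
  haveI := T.sol
  haveI := Fact.mk T.hq
  obtain ⟨w, -, hw, hwn⟩ := T.exists_line hne (Core.pCore_isPGroup s H)
  by_cases hq : Cfsg.pCore q H = ⊥
  · obtain ⟨hT1, hT2, -⟩ := T.side hw hwn
    have hin : ∀ g, orderOf g = s → g ∈ zpowers w := fun g hg => by
      refine hT1 g ?_ (hg ▸ pow_orderOf_eq_one g)
      have := centralizer_cores T.hq T.hs T.hcard (x := g)
        (fun t ht => by rw [hq, mem_bot] at ht; exact ht ▸ Commute.one_right g) (fun t ht => hT2 g hg t ht)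
      rwa [hq, bot_sup_eq] at this
    obtain ⟨x, y, h⟩ := T.es
    have hy := hin y h.oy
    rw [← zpowers_eq_of_mem T.hs hw (hin x h.ox) (h.x_ne T.hs)] at hy
    exact h.nmem hy
  · obtain ⟨z, -, hz, hzn⟩ := T.symm.exists_line hq (Core.pCore_isPGroup q H)
    by_cases hs2 : s = 2
    · exact T.symm.finish hz hzn hw hwn (fun e => T.hne (e.trans hs2.symm))
    · exact T.finish hw hwn hz hzn hs2

theorem Two.false (T : Two φ ψ q s) : False := by
  haveI := Fact.mk T.hs
  haveI := T.sol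
  haveI := Fact.mk T.hq
  by_cases hs : Cfsg.pCore s H = ⊥
  · by_cases hq : Cfsg.pCore q H = ⊥
    · obtain ⟨x, y, h⟩ := T.eq
      have := centralizer_cores T.hq T.hs T.hcard (x := x)
        (fun t ht => by rw [hq, mem_bot] at ht; exact ht ▸ Commute.one_right x)
        (fun t ht => by rw [hs, mem_bot] at ht; exact ht ▸ Commute.one_right x)
      rw [hq, hs, bot_sup_eq, mem_bot] at this
      exact h.x_ne T.hq this
    · exact T.symm.false_aux hq
  · exact T.false_aux hs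

end Cfsg.Lib.Solv.TriFree
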